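import Groth.Agent.H27Witt.Trans
import Groth.Agent.H19Grp.AffinePts
import Groth.Agent.S11191
import Groth.Prelude.Def_W4bk4grossh111Obs
import Mathlib

/-!
# Right invariant functions, rational points and vectors fixed by subgroups
-/

set_option autoImplicit false
set_option maxHeartbeats 1000000
set_option synthInstance.maxHeartbeats 200000
set_option linter.style.haveILetI false
set_option backward.isDefEq.respectTransparency false

universe u

open CategoryTheory CategoryTheory.Limits MonoidalCategory CartesianMonoidalCategory MonObj AlgebraicGeometry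
open scoped TensorProduct
open Groth.Agent.H27Witt Groth.Agent.H27Witt.Fn

noncomputable section

namespace Groth.Agent.H19Obs

attribute [local instance 2000] Hom.group Hom.monoid

variable {k : Type u} [Field k]

instance isAffine_tensor {X Y : Over (Sk k)} [IsAffine X.left] [IsAffine Y.left] : IsAffine (X ⊗ Y).left :=
  inferInstanceAs (IsAffine (pullback X.hom Y.hom))

instance smooth_tensor {X Y : Over (Sk k)} [Smooth X.hom] [Smooth Y.hom] : Smooth (X ⊗ Y).hom :=
  inferInstanceAs (Smooth (pullback.fst X.hom Y.hom ≫ X.hom))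

theorem smap_id : Spec.map (CommRingCat.ofHom (algebraMap k k)) = 𝟙 (Sk k) := by
  rw [← Spec.map_id]; rfl

/-- The rational point of the test scheme of the ground field. -/
def e0 : T0 k ⟶ VecGrp.pt k k :=
  Over.homMk (𝟙 _) ((Category.id_comp _).trans smap_id)

/-- The test scheme of the ground field maps to the base. -/
def e1 : VecGrp.pt k k ⟶ T0 k := toT0 _

theorem e0_e1 : e0 ≫ e1 (k := k) = 𝟙 (T0 k) := comp_toT0 _

theorem e1_e0 : e1 ≫ e0 = 𝟙 (VecGrp.pt k k) := by
  ext1
  change (VecGrp.pt k k).hom ≫ 𝟙 _ = 𝟙 _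
  rw [Category.comp_id]
  exact smap_id

theorem e0_cancel {X : Over (Sk k)} {f g : VecGrp.pt k k ⟶ X} (h : e0 ≫ f = e0 ≫ g) : f = g := by
  rw [← Category.id_comp f, ← e1_e0, Category.assoc, h, ← Category.assoc, e1_e0, Category.id_comp]

theorem exists_lift {X Y : Over (Sk k)} (i : X ⟶ Y) (g : VecGrp.pt k k ⟶ Y) :
    (∃ h : VecGrp.pt k k ⟶ X, h ≫ i = g) ↔ ∃ y : T0 k ⟶ X, y ≫ i = e0 ≫ g := by
  constructor
  · rintro ⟨h, rfl⟩
    exact ⟨e0 ≫ h, Category.assoc _ _ _⟩
  · rintro ⟨y, hy⟩
    exact ⟨e1 ≫ y, by rw [Category.assoc, hy, ← Category.assoc, e1_e0, Category.id_comp]⟩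

theorem isAffine_pt : IsAffine (VecGrp.pt k k).left := inferInstanceAs (IsAffine (Spec _))

theorem smooth_pt : Smooth (VecGrp.pt k k).hom := by
  show Smooth (Spec.map (CommRingCat.ofHom (algebraMap k k)))
  rw [smap_id]
  infer_instance

/-- The value at a rational point, read in the ground field. -/
theorem specAlg_symm_pull {X : Over (Sk k)} (g : VecGrp.pt k k ⟶ X) (f : Fn X) :
    (specAlg k).symm (pull g f) = ev (e0 ≫ g) f := by
  have h : ((gammaAlg (k := k)).comp (pull e0)).comp (specAlg k).toAlgHom = AlgHom.id k k :=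
    AlgHom.ext fun c => AlgHom.commutes _ c
  have h' : gammaAlg (pull e0 (specAlg k ((specAlg k).symm (pull g f)))) = (specAlg k).symm (pull g f) :=
    AlgHom.congr_fun h _
  rw [AlgEquiv.apply_symm_apply] at h'
  exact h'.symm

theorem appTop_eq_iff {X : Over (Sk k)} (g g' : VecGrp.pt k k ⟶ X) (f : Γ(X.left, ⊤)) :
    g.left.appTop f = g'.left.appTop f ↔ ev (e0 ≫ g) f = ev (e0 ≫ g') f := by
  constructor
  · intro h
    rw [← specAlg_symm_pull, ← specAlg_symm_pull]
    exact congrArg _ h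
  · intro h
    rw [← specAlg_symm_pull, ← specAlg_symm_pull] at h
    exact (specAlg k).symm.injective h

variable [IsAlgClosed k] {G : Over (Sk k)} [GrpObj G] [IsAffine G.left] [Smooth G.hom]

/-- Right invariance read on rational points. -/
theorem isRTransInv_iff {T : Over (Sk k)} [IsAffine T.left] [Smooth T.hom] (g : T ⟶ G) (f : Fn G) :
    AGF.IsRTransInv g f ↔ ∀ (x : T0 k ⟶ G) (y : T0 k ⟶ T), ev (x * (y ≫ g)) f = ev x f := by
  change pull ((G ◁ g) ≫ μ[G]) f = pull (fst G T) f ↔ _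
  have e : ∀ (x : T0 k ⟶ G) (y : T0 k ⟶ T), lift x y ≫ (G ◁ g) ≫ μ[G] = x * (y ≫ g) := fun x y => by
    rw [← Category.assoc, lift_whiskerLeft, Hom.mul_def]
  constructor
  · intro h x y
    have h' := congrArg (ev (lift x y)) h
    rwa [ev_pull, ev_pull, e, lift_fst] at h'
  · intro h
    refine ext_points fun z => ?_
    rw [ev_pull, ev_pull, show z = lift (z ≫ fst G T) (z ≫ snd G T) by ext <;> simp, e, lift_fst]
    exact h _ _

/-- Right invariance under a rational point. -/
theorem isRTransInv_pt_iff (g : VecGrp.pt k k ⟶ G) (f : Fn G) :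
    AGF.IsRTransInv g f ↔ ∀ x : T0 k ⟶ G, ev (x * (e0 ≫ g)) f = ev x f := by
  haveI := isAffine_pt (k := k)
  haveI := smooth_pt (k := k)
  rw [isRTransInv_iff]
  refine ⟨fun h x => h x e0, fun h x y => ?_⟩
  rw [show y = e0 from Over.OverMorphism.ext ?_]
  · exact h x
  · have h1 : y.left ≫ (VecGrp.pt k k).hom = 𝟙 _ := Over.w y
    change y.left ≫ Spec.map (CommRingCat.ofHom (algebraMap k k)) = 𝟙 _ at h1
    rw [smap_id] at h1
    erw [Category.comp_id] at h1
    exact h1

/-- Left translations of functions. -/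
def L (a : T0 k ⟶ G) : Fn G →ₐ[k] Fn G := pull ((toT0 G ≫ a) * 𝟙 G)

omit [IsAlgClosed k] [IsAffine G.left] [Smooth G.hom] in
theorem ev_L (a x : T0 k ⟶ G) (f : Fn G) : ev x (L a f) = ev (a * x) f := by
  rw [L, ev_pull, MonObj.comp_mul, Category.comp_id, ← Category.assoc, comp_toT0, Category.id_comp]

variable {H : Over (Sk k)} [GrpObj H] [IsAffine H.left] [Smooth H.hom] (i : H ⟶ G) [IsMonHom i]

omit [GrpObj H] [IsMonHom i] in
theorem isRTransInv_L {f : Fn G} (hf : AGF.IsRTransInv i f) (a : T0 k ⟶ G) : AGF.IsRTransInv i (L a f) := by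
  refine (isRTransInv_iff i _).2 fun x y => ?_
  rw [ev_L, ev_L, ← _root_.mul_assoc]
  exact (isRTransInv_iff i f).1 hf _ _

omit [GrpObj H] [IsMonHom i] in
/-- Finitely many invariant functions separate as well as all of them. -/
theorem exists_separating :
    ∃ s : Finset (Fn G), (∀ f ∈ s, AGF.IsRTransInv i f) ∧
      ∀ x x' : T0 k ⟶ G, (∀ f ∈ s, ev x f = ev x' f) → ∀ f : Fn G, AGF.IsRTransInv i f → ev x f = ev x' f := by
  classical
  haveI := finiteType (G ⊗ G)
  haveI : IsNoetherianRing (Fn (G ⊗ G)) := Algebra.FiniteType.isNoetherianRing k _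
  let D : Fn G → Fn (G ⊗ G) := fun f => pull (fst G G) f - pull (snd G G) f
  let I := Ideal.span (D '' {f | AGF.IsRTransInv i f})
  obtain ⟨t, ht, hspan⟩ := (Submodule.fg_span_iff_fg_span_finset_subset _).1 (IsNoetherian.noetherian I)
  choose! p hp hDp using fun a (ha : a ∈ t) => ht ha
  refine ⟨t.image p, ?_, fun x x' hxx f hf => ?_⟩
  · intro f hf
    obtain ⟨a, ha, rfl⟩ := Finset.mem_image.1 hf
    exact hp a ha
  · have hD : ∀ φ : Fn G, ev (lift x x') (D φ) = ev x φ - ev x' φ := fun φ => by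
      simp only [D, map_sub, ev_pull, lift_fst, lift_snd]
    have hle : Ideal.span (t : Set (Fn (G ⊗ G))) ≤ RingHom.ker (ev (lift x x')) := by
      rw [Ideal.span_le]
      intro a ha
      rw [SetLike.mem_coe, RingHom.mem_ker, ← hDp a ha, hD, sub_eq_zero]
      exact hxx _ (Finset.mem_image.2 ⟨a, ha, rfl⟩)
    have hmem : D f ∈ Ideal.span (t : Set (Fn (G ⊗ G))) := hspan.le (Submodule.subset_span ⟨f, hf, rfl⟩)
    have h0 : ev (lift x x') (D f) = 0 := hle hmem
    rwa [hD, sub_eq_zero] at h0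

omit [GrpObj H] [IsMonHom i] in
/-- Invariant functions agreeing at two points give a point of the observable hull. -/
theorem hull_of_sep {x x' : T0 k ⟶ G} (h : ∀ f : Fn G, AGF.IsRTransInv i f → ev x f = ev x' f) :
    ∀ f : Fn G, AGF.IsRTransInv i f → AGF.IsRTransInv (e1 ≫ (x⁻¹ * x')) f := by
  intro f hf
  refine (isRTransInv_pt_iff _ _).2 fun z => ?_
  rw [← Category.assoc, e0_e1, Category.id_comp]
  have h1 := h _ (isRTransInv_L i hf (z * x⁻¹))
  rw [ev_L, ev_L, _root_.mul_assoc z, _root_.mul_assoc z, inv_mul_cancel, _root_.mul_one] at h1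
  exact h1.symm

variable {M : Type u} [AddCommGroup M] [Module k M]

omit [GrpObj H] [IsMonHom i] in
/-- A vector fixed by the rational points of a smooth subgroup is fixed by the subgroup. -/
theorem mem_fixedUnder_of_points (ρ : VecGrp.GMod G M) (v : M)
    (hv : ∀ y : T0 k ⟶ H, ρ.ρ k (e1 ≫ y ≫ i) ((1 : k) ⊗ₜ[k] v) = (1 : k) ⊗ₜ[k] v) :
    ∀ (B : Type u) [CommRing B] [Algebra k B] (h : VecGrp.pt k B ⟶ H),
      ρ.ρ B (h ≫ i) ((1 : B) ⊗ₜ[k] v) = (1 : B) ⊗ₜ[k] v := by
  intro B _ _ h
  let b := Module.Basis.ofVectorSpace k M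
  letI : Algebra k Γ(G.left, ⊤) := H19Grp.algTop G
  have hcoef : ∀ (C : Type u) [CommRing C] [Algebra k C] (z : VecGrp.W k M C) (j),
      (Algebra.TensorProduct.basis C b).repr z j = H19Grp.coef C (b.coord j) z := by
    intro C _ _ z j
    induction z using TensorProduct.induction_on with
    | zero => simp
    | tmul c m => simp [Algebra.TensorProduct.basis_repr_tmul, Algebra.smul_def, _root_.mul_comm]
    | add x y hx hy => simp only [map_add, Finsupp.add_apply, hx, hy]
  refine (Algebra.TensorProduct.basis B b).repr.injective (Finsupp.ext fun j => ?_)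
  rw [hcoef, hcoef, H19Grp.coef_gmod_eq_ptHom ρ v _ (h ≫ i)]
  let f : Fn G := H19Grp.coef Γ(G.left, ⊤) (b.coord j) (ρ.ρ Γ(G.left, ⊤) (H19Grp.upt G) ((1 : Γ(G.left, ⊤)) ⊗ₜ[k] v))
  have hf : pull i f = algebraMap k (Fn H) (b.coord j v) := by
    refine ext_points fun y => ?_
    rw [AlgHom.commutes, ev_pull]
    have h1 := congrArg (H19Grp.coef k (b.coord j)) (hv y)
    rw [H19Grp.coef_gmod_eq_ptHom ρ v _ (e1 ≫ y ≫ i), H19Grp.coef_tmul, smul_eq_mul, _root_.mul_one] at h1
    have h2 := specAlg_symm_pull (e1 ≫ y ≫ i) f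
    rw [← Category.assoc e0, e0_e1, Category.id_comp] at h2
    exact h2.symm.trans h1
  change (specAlg B).symm (pull (h ≫ i) f) = _
  rw [← pull_pull, hf, AlgHom.commutes, AlgEquiv.commutes, H19Grp.coef_tmul, ← Algebra.algebraMap_eq_smul_one]

end Groth.Agent.H19Obs
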