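import Groth.Agent.H19Obs.RegRep
import Groth.Agent.H14GL.Points
import Groth.Agent.H14GL.Props
import Groth.Agent.H19Quot.LinearHom
import Mathlib

/-!
# Homomorphisms to the general linear group from matrices of functions
-/

set_option autoImplicit false
set_option maxHeartbeats 1000000
set_option synthInstance.maxHeartbeats 200000
set_option linter.style.haveILetI false
set_option backward.isDefEq.respectTransparency false

universe u

open CategoryTheory CategoryTheory.Limits MonoidalCategory CartesianMonoidalCategory MonObj AlgebraicGeometry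
open scoped TensorProduct
open Groth.Agent.H27Witt Groth.Agent.H27Witt.Fn

noncomputable section

namespace Groth.Agent.H19Obs

attribute [local instance 2000] Hom.group Hom.monoid

theorem smooth_GLn (n : ℕ) (S : Scheme.{u}) : Smooth (FrB.GLn n S).hom := by
  refine MorphismProperty.pullback_snd (P := @Smooth) _ _ ?_
  have := H14GL.smooth_GLn H14GL.ZU.{u} n
  exact (HasRingHomProperty.Spec_iff (P := @Smooth)).mpr (RingHom.smooth_algebraMap.mpr inferInstance)

variable {k : Type u} [Field k]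

/-- A morphism respecting products of points is a homomorphism. -/
theorem isMonHom_of_mul {S : Scheme.{u}} {G G' : Over S} [GrpObj G] [GrpObj G'] (r : G ⟶ G')
    (h : ∀ (Z : Over S) (x y : Z ⟶ G), (x * y) ≫ r = (x ≫ r) * (y ≫ r)) : IsMonHom r := by
  refine ⟨?_, ?_⟩
  · have h0 := h (𝟙_ (Over S)) 1 1
    rw [_root_.mul_one, left_eq_mul, Hom.one_def, toUnit_unique (toUnit _) (𝟙 _), Category.id_comp] at h0
    rw [h0, Hom.one_def, toUnit_unique (toUnit _) (𝟙 _), Category.id_comp]
  · have h0 := h (G ⊗ G) (fst G G) (snd G G)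
    rw [Hom.mul_def, lift_fst_snd, Category.id_comp] at h0
    rw [h0, Hom.mul_def, lift_fst_comp_snd_comp]

/-- The invertible matrix of a rational point of the general linear group. -/
def glMat {n : ℕ} (x : T0 k ⟶ FrB.GLn n (Sk k)) : GL (Fin n) k :=
  Matrix.GeneralLinearGroup.map (gammaAlg (k := k)).toRingHom (H14GL.mat x : GL (Fin n) (Fn (T0 k)))

theorem glMat_mul {n : ℕ} (x y : T0 k ⟶ FrB.GLn n (Sk k)) : glMat (x * y) = glMat x * glMat y := by
  rw [glMat, H14GL.mat_mul]
  exact map_mul _ _ _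

theorem glMat_injective {n : ℕ} : Function.Injective (glMat (k := k) (n := n)) := by
  intro x y h
  refine H14GL.mat_ext (Units.ext (Matrix.ext fun a b => ?_))
  have h' := congrArg (fun g : GL (Fin n) k => struct (T0 k) (g.val a b)) h
  exact ((struct_gamma _).symm.trans h').trans (struct_gamma _)

theorem exists_glMat {n : ℕ} (g : GL (Fin n) k) : ∃ x : T0 k ⟶ FrB.GLn n (Sk k), glMat x = g := by
  obtain ⟨x, hx⟩ := H14GL.exists_mat (S := Sk k) (Z := T0 k)
    (Matrix.GeneralLinearGroup.map (algebraMap k (Fn (T0 k))) g)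
  refine ⟨x, Units.ext (Matrix.ext fun a b => ?_)⟩
  change gammaAlg ((H14GL.mat x).val a b) = g.val a b
  rw [hx]
  exact gamma_struct _

/-- The homomorphism of a matrix of functions. -/
theorem exists_hom_of_fnMat {G : Over (Sk k)} [GrpObj G] {κ : Type u} [Fintype κ] [DecidableEq κ] (A : FnMat G κ)
    {n : ℕ} (e : κ ≃ Fin n) :
    ∃ r : G ⟶ FrB.GLn n (Sk k), IsMonHom r ∧ ∀ (x : T0 k ⟶ G) (a b : κ),
      (glMat (x ≫ r)).val (e a) (e b) = ev x (A.F a b) := by
  let U : ∀ {X : Over (Sk k)}, (X ⟶ G) →* GL (Fin n) (Fn X) := fun {X} =>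
    ((Matrix.reindexAlgEquiv k (Fn X) e).toAlgHom.toRingHom.toMonoidHom.comp (A.mat (X := X))).toHomUnits
  have hU : ∀ {X Y : Over (Sk k)} (x : X ⟶ Y) (g : Y ⟶ G),
      U (x ≫ g) = Matrix.GeneralLinearGroup.map (pull x).toRingHom (U g) := fun x g =>
    Units.ext (Matrix.ext fun a b => (pull_pull x g _).symm)
  obtain ⟨r, hr⟩ := H14GL.exists_mat (S := Sk k) (Z := G) (U (𝟙 G))
  have hx : ∀ {X : Over (Sk k)} (x : X ⟶ G), H14GL.mat (x ≫ r) = U x := fun x => by
    rw [H14GL.mat_comp, hr]
    exact (hU x (𝟙 G)).symm.trans (by rw [Category.comp_id])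
  refine ⟨r, isMonHom_of_mul r fun Z x y => H14GL.mat_ext ?_, fun x a b => ?_⟩
  · rw [H14GL.mat_mul, hx, hx, hx]
    exact map_mul _ _ _
  · change gammaAlg ((H14GL.mat (x ≫ r)).val (e a) (e b)) = _
    rw [hx]
    change gammaAlg (pull x (A.F (e.symm (e a)) (e.symm (e b)))) = _
    rw [Equiv.symm_apply_apply, Equiv.symm_apply_apply]
    rfl

/-- Conjugates of homomorphisms are homomorphisms. -/
theorem isMonHom_conj {G G' : Over (Sk k)} [GrpObj G] [GrpObj G'] (r : G ⟶ G') [IsMonHom r] (u : T0 k ⟶ G') :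
    IsMonHom ((toT0 G ≫ u) * r * (toT0 G ≫ u)⁻¹) := by
  refine isMonHom_of_mul _ fun Z x y => ?_
  have hc : ∀ z : Z ⟶ G, z ≫ toT0 G ≫ u = toT0 Z ≫ u := fun z => by
    rw [← Category.assoc]
    exact congrArg (· ≫ u) (Over.OverMorphism.ext (Over.w z))
  simp only [MonObj.comp_mul, GrpObj.comp_inv, hc, MonObj.mul_comp]
  group

end Groth.Agent.H19Obs
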