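import Groth.Agent.H19Obs.Extend
import Groth.Agent.H19Obs.GLHom
import Groth.Agent.H20Mu.Values

/-!
# Characters as functions, one-dimensional modules, semi-invariant vectors
-/

set_option autoImplicit false
set_option maxHeartbeats 1000000
set_option synthInstance.maxHeartbeats 200000
set_option linter.style.haveILetI false
set_option backward.isDefEq.respectTransparency false

universe u

open CategoryTheory CategoryTheory.Limits MonoidalCategory CartesianMonoidalCategory MonObj AlgebraicGeometry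
open scoped TensorProduct
open Groth.Agent.H27Witt Groth.Agent.H27Witt.Fn

noncomputable section

namespace Groth.Agent.H19Obs

attribute [local instance 2000] Hom.group Hom.monoid

variable {k : Type u} [Field k] {H : Over (Sk k)}

/-- The function of a map to the multiplicative group. -/
def charFn (χ : H ⟶ Red.Gm (Sk k)) : Fn H := (GmPts.unitOfPt χ : Γ(H.left, ⊤))

theorem pull_charFn {T : Over (Sk k)} (g : T ⟶ H) (χ : H ⟶ Red.Gm (Sk k)) :
    pull g (charFn χ) = charFn (g ≫ χ) := by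
  rw [charFn, charFn, GmPts.unitOfPt_comp]
  rfl

theorem charFn_mul (χ χ' : H ⟶ Red.Gm (Sk k)) : charFn (χ * χ') = charFn χ * charFn χ' := by
  rw [charFn, GmPts.unitOfPt_mul, Units.val_mul]
  rfl

theorem charFn_one : charFn (1 : H ⟶ Red.Gm (Sk k)) = 1 := by
  rw [charFn, GmPts.unitOfPt_one, Units.val_one]

theorem charFn_inv_mul (χ : H ⟶ Red.Gm (Sk k)) : charFn χ⁻¹ * charFn χ = 1 := by
  rw [← charFn_mul, inv_mul_cancel χ, charFn_one]

theorem chiVal_eq (χ : H ⟶ Red.Gm (Sk k)) (B : Type u) [CommRing B] [Algebra k B] (g : VecGrp.pt k B ⟶ H) :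
    VecGrp.chiVal χ g = (specAlg B).symm (pull g (charFn χ)) := by
  rw [pull_charFn]
  rfl

theorem ev_charFn_inv (χ : H ⟶ Red.Gm (Sk k)) (y : T0 k ⟶ H) :
    ev y (charFn χ⁻¹) * ev y (charFn χ) = 1 := by
  rw [← map_mul, charFn_inv_mul, map_one]

variable [GrpObj H]

theorem charFn_comp_mul (χ : H ⟶ Red.Gm (Sk k)) [IsMonHom χ] (y y' : T0 k ⟶ H) :
    ev (y * y') (charFn χ) = ev y (charFn χ) * ev y' (charFn χ) := by
  have h : ∀ z : T0 k ⟶ H, ev z (charFn χ) = gammaAlg (charFn (z ≫ χ)) := fun z => by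
    rw [← pull_charFn]; rfl
  rw [h, h, h, MonObj.mul_comp, charFn_mul, map_mul]

theorem ev_one_charFn (χ : H ⟶ Red.Gm (Sk k)) [IsMonHom χ] : ev (1 : T0 k ⟶ H) (charFn χ) = 1 := by
  have h1 := charFn_comp_mul χ 1 1
  rw [_root_.mul_one] at h1
  have h2 : ev (1 : T0 k ⟶ H) (charFn χ) ≠ 0 := fun h0 => by
    have := ev_charFn_inv χ 1
    rw [h0, mul_zero] at this
    exact zero_ne_one this
  exact (mul_eq_left₀ h2).1 h1.symm

variable [IsAlgClosed k] [IsAffine H.left] [Smooth H.hom]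

omit [GrpObj H] in
theorem pull_mu_of_points [GrpObj H] {F : Fn H}
    (hmul : ∀ y y' : T0 k ⟶ H, ev (y * y') F = ev y F * ev y' F) :
    pull μ[H] F = pull (fst H H) F * pull (snd H H) F := by
  refine ext_points fun z => ?_
  rw [ev_pull, map_mul, show z ≫ μ[H] = (z ≫ fst H H) * (z ≫ snd H H) by
    rw [Hom.mul_def, lift_comp_fst_snd], hmul, ev_pull z (fst H H) F, ev_pull z (snd H H) F]

/-- A multiplicative function gives a character. -/
theorem exists_char (F : Fn H) (h1 : ev (1 : T0 k ⟶ H) F = 1)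
    (hmul : ∀ y y' : T0 k ⟶ H, ev (y * y') F = ev y F * ev y' F) :
    ∃ χ : H ⟶ Red.Gm (Sk k), IsMonHom χ ∧ charFn χ = F := by
  have hinv : ∀ y : T0 k ⟶ H, ev y F * ev y⁻¹ F = 1 := fun y => by rw [← hmul, mul_inv_cancel, h1]
  let u : (Γ(H.left, ⊤))ˣ :=
    { val := F
      inv := pull (𝟙 H)⁻¹ F
      val_inv := by
        refine ext_points (a := F * pull (𝟙 H)⁻¹ F) (b := 1) fun y => ?_
        rw [map_mul, map_one, ev_pull y (𝟙 H)⁻¹ F, GrpObj.comp_inv, Category.comp_id, hinv]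
      inv_val := by
        refine ext_points (a := pull (𝟙 H)⁻¹ F * F) (b := 1) fun y => ?_
        rw [map_mul, map_one, ev_pull y (𝟙 H)⁻¹ F, GrpObj.comp_inv, Category.comp_id, _root_.mul_comm, hinv] }
  have hu : charFn (GmPts.ptOfUnit u) = F := by
    rw [charFn, GmPts.unitOfPt_ptOfUnit]
  refine ⟨GmPts.ptOfUnit u, isMonHom_of_mul (GmPts.ptOfUnit u : H ⟶ Red.Gm (Sk k)) fun Z x y => ?_, hu⟩
  rw [← GmPts.ptOfUnit_unitOfPt ((x * y) ≫ GmPts.ptOfUnit u),
    ← GmPts.ptOfUnit_unitOfPt ((x ≫ GmPts.ptOfUnit u) * (y ≫ GmPts.ptOfUnit u))]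
  congr 1
  refine Units.ext ?_
  rw [GmPts.unitOfPt_mul, Units.val_mul]
  change charFn ((x * y) ≫ _) = charFn (x ≫ _) * charFn (y ≫ _)
  rw [← pull_charFn, ← pull_charFn, ← pull_charFn, hu, Hom.mul_def, ← pull_pull, pull_mu_of_points hmul, map_mul,
    pull_pull _ (fst H H) F, pull_pull _ (snd H H) F, lift_fst, lift_snd]

/-- The matrix of a character. -/
def charMat (χ : H ⟶ Red.Gm (Sk k)) [IsMonHom χ] : FnMat H PUnit.{u+1} where
  F _ _ := charFn χ
  one a b := by rw [if_pos (Subsingleton.elim a b), ev_one_charFn]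
  mul a b := by rw [Fintype.sum_unique]; exact pull_mu_of_points (charFn_comp_mul χ)

/-- The line of a character. -/
def charMod (χ : H ⟶ Red.Gm (Sk k)) [IsMonHom χ] : VecGrp.GMod H k :=
  (charMat χ).gmod (Module.Basis.singleton PUnit.{u+1} k)

theorem charMod_apply (χ : H ⟶ Red.Gm (Sk k)) [IsMonHom χ] (B : Type u) [CommRing B] [Algebra k B]
    (g : VecGrp.pt k B ⟶ H) :
    (charMod χ).ρ B g ((1 : B) ⊗ₜ[k] (1 : k)) = VecGrp.chiVal χ g • ((1 : B) ⊗ₜ[k] (1 : k)) := by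
  have h := (charMat χ).actB_tmul (Module.Basis.singleton PUnit.{u+1} k) B g PUnit.unit
  simp only [Fintype.sum_unique, Module.Basis.singleton_apply, FnMat.matB_apply] at h
  rw [chiVal_eq]
  exact h

variable {G : Over (Sk k)} [GrpObj G] [IsAffine G.left] (i : H ⟶ G) [IsMonHom i]
  {V : Type u} [AddCommGroup V] [Module k V] (ρ : VecGrp.GMod G V)

/-- Semi-invariance of a vector is seen on rational points. -/
theorem semiInvariant_of_points (χ : H ⟶ Red.Gm (Sk k)) [IsMonHom χ] (v : V)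
    (hv : ∀ y : T0 k ⟶ H, ρ.ρ k (e1 ≫ y ≫ i) ((1 : k) ⊗ₜ[k] v) = ev y (charFn χ) • ((1 : k) ⊗ₜ[k] v))
    (B : Type u) [CommRing B] [Algebra k B] (g : VecGrp.pt k B ⟶ H) :
    ρ.ρ B (g ≫ i) ((1 : B) ⊗ₜ[k] v) = VecGrp.chiVal χ g • ((1 : B) ⊗ₜ[k] v) := by
  let φ : k →ₗ[k] V := LinearMap.toSpanSingleton k V v
  have h := equivariant_of_points i (charMod χ) ρ φ (fun y c => ?_) B g ((1 : B) ⊗ₜ[k] 1)
  · rw [charMod_apply, map_smul, LinearMap.baseChange_tmul] at h
    simpa [φ] using h.symm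
  · rw [show ((1 : k) ⊗ₜ[k] c) = c • ((1 : k) ⊗ₜ[k] (1 : k)) by rw [← TensorProduct.tmul_smul, smul_eq_mul,
      _root_.mul_one], map_smul, charMod_apply, map_smul, map_smul, LinearMap.baseChange_tmul,
      chiVal_eq, specAlg_symm_pull, ← Category.assoc e0, e0_e1, Category.id_comp,
      show ((1 : k) ⊗ₜ[k] φ c) = c • ((1 : k) ⊗ₜ[k] v) by simp [φ, TensorProduct.tmul_smul], map_smul, hv]
    simp [φ]

omit [IsAlgClosed k] [Smooth H.hom] [IsAffine H.left] [GrpObj H] [IsMonHom i] in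
/-- The coefficient of a semi-invariant vector. -/
theorem ev_coef_mul (χ : H ⟶ Red.Gm (Sk k)) (v : V) (ℓ : V →ₗ[k] k)
    (hv : ∀ (B : Type u) [CommRing B] [Algebra k B] (h : VecGrp.pt k B ⟶ H),
      ρ.ρ B (h ≫ i) ((1 : B) ⊗ₜ[k] v) = VecGrp.chiVal χ h • ((1 : B) ⊗ₜ[k] v))
    (x : T0 k ⟶ G) (y : T0 k ⟶ H) :
    ev (x * (y ≫ i)) (coefFn ρ ℓ v) = ev y (charFn χ) * ev x (coefFn ρ ℓ v) := by
  rw [ev_coefFn, ev_coefFn, MonObj.comp_mul, map_mul, LinearEquiv.mul_apply, ← Category.assoc, hv k (e1 ≫ y),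
    chiVal_eq, specAlg_symm_pull, ← Category.assoc e0, e0_e1, Category.id_comp, map_smul, map_smul]
  rfl

end Groth.Agent.H19Obs
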