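import Groth.Agent.H19Obs.Basic
import Mathlib

/-!
# Rational modules from matrices of functions, translation stable spaces
-/

set_option autoImplicit false
set_option maxHeartbeats 1000000
set_option synthInstance.maxHeartbeats 200000
set_option linter.style.haveILetI false
set_option backward.isDefEq.respectTransparency false

universe u

open CategoryTheory CategoryTheory.Limits MonoidalCategory CartesianMonoidalCategory MonObj AlgebraicGeometry
open scoped TensorProduct
open Groth.Agent.H27Witt Groth.Agent.H27Witt.Fn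

noncomputable section

namespace Groth.Agent.H19Obs

attribute [local instance 2000] Hom.group Hom.monoid

variable {k : Type u} [Field k] {G : Over (Sk k)} [GrpObj G]

/-- A square matrix of functions on a group which multiplies like matrices. -/
structure FnMat (G : Over (Sk k)) [GrpObj G] (κ : Type u) [Fintype κ] [DecidableEq κ] where
  /-- the entries -/
  F : κ → κ → Fn G
  one : ∀ a b, ev (1 : T0 k ⟶ G) (F a b) = if a = b then 1 else 0
  mul : ∀ a b, pull μ[G] (F a b) = ∑ r, pull (fst G G) (F a r) * pull (snd G G) (F r b)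

namespace FnMat

variable {κ : Type u} [Fintype κ] [DecidableEq κ] (A : FnMat G κ)

/-- The matrix of a point. -/
def mat {X : Over (Sk k)} : (X ⟶ G) →* Matrix κ κ (Fn X) where
  toFun g := Matrix.of fun a b => pull g (A.F a b)
  map_one' := by
    ext a b
    show pull (1 : X ⟶ G) (A.F a b) = _
    rw [← MonObj.comp_one (toT0 X), ← pull_pull, pull_point, AlgHom.commutes, A.one, Matrix.one_apply,
      apply_ite (algebraMap k (Fn X)), map_one, map_zero]
  map_mul' g h := by
    ext a b
    show pull (g * h) (A.F a b) = _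
    rw [Hom.mul_def, ← pull_pull, A.mul, map_sum, Matrix.mul_apply]
    exact Finset.sum_congr rfl fun r _ => by rw [map_mul, pull_pull, pull_pull, lift_fst, lift_snd]; rfl

/-- The matrix of a point with values in an algebra. -/
def matB (B : Type u) [CommRing B] [Algebra k B] : (VecGrp.pt k B ⟶ G) →* Matrix κ κ B :=
  ((AlgEquiv.mapMatrix (specAlg B).symm).toAlgHom.toRingHom.toMonoidHom).comp A.mat

theorem matB_apply (B : Type u) [CommRing B] [Algebra k B] (g : VecGrp.pt k B ⟶ G) (a b : κ) :
    A.matB B g a b = (specAlg B).symm (pull g (A.F a b)) := rfl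

theorem matB_natural {B B' : Type u} [CommRing B] [Algebra k B] [CommRing B'] [Algebra k B'] (φ : B →ₐ[k] B')
    (g : VecGrp.pt k B ⟶ G) (a b : κ) : A.matB B' (VecGrp.ptMap φ ≫ g) a b = φ (A.matB B g a b) := by
  obtain ⟨z, hz⟩ := (specAlg B).surjective (pull g (A.F a b))
  rw [matB_apply, matB_apply, ← pull_pull, ← hz, AlgEquiv.symm_apply_apply]
  apply (specAlg (k := k) B').injective
  rw [AlgEquiv.apply_symm_apply]
  exact (congrArg (fun f => f z) (Scheme.ΓSpecIso_inv_naturality (CommRingCat.ofHom φ.toRingHom))).symm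

variable {M : Type u} [AddCommGroup M] [Module k M] (b : Module.Basis κ k M)

/-- The action of a point. -/
def actB (B : Type u) [CommRing B] [Algebra k B] :
    (VecGrp.pt k B ⟶ G) →* (VecGrp.W k M B ≃ₗ[B] VecGrp.W k M B) :=
  ((LinearMap.GeneralLinearGroup.generalLinearEquiv B (VecGrp.W k M B)).toMonoidHom).comp
    (((Matrix.toLinAlgEquiv (Algebra.TensorProduct.basis B b)).toAlgHom.toRingHom.toMonoidHom.comp
      (A.matB B)).toHomUnits)

theorem actB_tmul (B : Type u) [CommRing B] [Algebra k B] (g : VecGrp.pt k B ⟶ G) (c : κ) :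
    A.actB b B g ((1 : B) ⊗ₜ[k] b c) = ∑ a, A.matB B g a c • ((1 : B) ⊗ₜ[k] b a) := by
  change Matrix.toLinAlgEquiv (Algebra.TensorProduct.basis B b) (A.matB B g) _ = _
  rw [← Algebra.TensorProduct.basis_apply, Matrix.toLinAlgEquiv_self]
  exact Finset.sum_congr rfl fun a _ => by rw [Algebra.TensorProduct.basis_apply]

/-- The module of a matrix of functions in a basis. -/
def gmod : VecGrp.GMod G M where
  ρ B _ _ := A.actB b B
  naturality {B B'} _ _ _ _ φ g x := by
    have hb : ∀ c, VecGrp.Wmap φ (A.actB b B g ((1 : B) ⊗ₜ[k] b c)) =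
        A.actB b B' (VecGrp.ptMap φ ≫ g) ((1 : B') ⊗ₜ[k] b c) := fun c => by
      simp only [actB_tmul, map_sum, VecGrp.Wmap_smul, VecGrp.Wmap_tmul, map_one, matB_natural]
    conv_lhs => rw [← (Algebra.TensorProduct.basis B b).sum_repr x]
    conv_rhs => rw [← (Algebra.TensorProduct.basis B b).sum_repr x]
    simp only [map_sum, map_smul, VecGrp.Wmap_smul, Algebra.TensorProduct.basis_apply, hb, VecGrp.Wmap_tmul, map_one]

theorem gmod_rho_k (g : VecGrp.pt k k ⟶ G) (c : κ) :
    (A.gmod b).ρ k g ((1 : k) ⊗ₜ[k] b c) = (1 : k) ⊗ₜ[k] (∑ a, ev (e0 ≫ g) (A.F a c) • b a) := by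
  rw [show (A.gmod b).ρ k g = A.actB b k g from rfl, actB_tmul, TensorProduct.tmul_sum]
  refine Finset.sum_congr rfl fun a _ => ?_
  rw [TensorProduct.tmul_smul, matB_apply, specAlg_symm_pull]

end FnMat

section Stable

variable [IsAlgClosed k] [IsAffine G.left] [Smooth G.hom]

omit [IsAlgClosed k] [Smooth G.hom] in
/-- Finitely many functions lie in a finite-dimensional translation stable space. -/
theorem exists_stable_finset (s : Finset (Fn G)) :
    ∃ V : Submodule k (Fn G), FiniteDimensional k V ∧ (∀ f ∈ s, f ∈ V) ∧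
      ∀ (x : T0 k ⟶ G), ∀ v ∈ V, R x v ∈ V := by
  classical
  choose n b c h using fun a : Fn G => R_eq_sum (G := G) a
  let V : Submodule k (Fn G) := Submodule.span k (⋃ a ∈ s, Set.range fun x : T0 k ⟶ G => R x a)
  let W : Submodule k (Fn G) := Submodule.span k (⋃ a ∈ s, Set.range (b a))
  haveI : FiniteDimensional k W :=
    FiniteDimensional.span_of_finite k (s.finite_toSet.biUnion fun a _ => Set.finite_range _)
  have hVW : V ≤ W := by
    refine Submodule.span_le.mpr (Set.iUnion₂_subset fun a ha => ?_)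
    rintro _ ⟨x, rfl⟩
    change R x a ∈ W
    rw [h a x]
    exact Submodule.sum_mem _ fun i _ => Submodule.smul_mem _ _
      (Submodule.subset_span (Set.mem_iUnion₂.mpr ⟨a, ha, i, rfl⟩))
  refine ⟨V, Submodule.finiteDimensional_of_le hVW, fun a ha => ?_, fun x v hv => ?_⟩
  · exact Submodule.subset_span (Set.mem_iUnion₂.mpr ⟨a, ha, 1, by change R 1 a = a; rw [R_one, AlgHom.id_apply]⟩)
  · have hle : V ≤ V.comap (R x).toLinearMap := by
      refine Submodule.span_le.mpr (Set.iUnion₂_subset fun a ha => ?_)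
      rintro _ ⟨y, rfl⟩
      change R x (R y a) ∈ V
      rw [← AlgHom.comp_apply, ← Fn.R_mul]
      exact Submodule.subset_span (Set.mem_iUnion₂.mpr ⟨a, ha, _, rfl⟩)
    exact hle hv

omit [IsAlgClosed k] [Smooth G.hom] in
/-- Coefficients of a family of translates in a linearly independent family are functions. -/
theorem exists_coeff {V : Submodule k (Fn G)} (hV : ∀ (x : T0 k ⟶ G), ∀ v ∈ V, R x v ∈ V)
    {κ : Type u} [Fintype κ] (b : Module.Basis κ k V) (c : κ) :
    ∃ F : κ → Fn G, ∀ x : T0 k ⟶ G, R x (b c : Fn G) = ∑ a, ev x (F a) • (b a : Fn G) := by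
  obtain ⟨n, u, w, h⟩ := R_eq_sum (G := G) (b c : Fn G)
  obtain ⟨π, hπ⟩ := V.subtype.exists_leftInverse_of_injective (Submodule.ker_subtype V)
  refine ⟨fun a => ∑ j, b.repr (π (u j)) a • w j, fun x => ?_⟩
  let v : V := ⟨R x (b c : Fn G), hV x _ (b c).2⟩
  have h1 : π (v : Fn G) = v := LinearMap.congr_fun hπ v
  have h2 : (v : Fn G) = ∑ a, b.repr v a • (b a : Fn G) := by
    have h3 := congrArg V.subtype (b.sum_repr v)
    rw [map_sum] at h3
    exact h3.symm
  refine h2.trans (Finset.sum_congr rfl fun a _ => ?_)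
  congr 1
  rw [← h1, show (v : Fn G) = ∑ j, ev x (w j) • u j from h x]
  simp only [map_sum, map_smul, Finsupp.coe_finsetSum, Finset.sum_apply, Finsupp.smul_apply, smul_eq_mul]
  exact Finset.sum_congr rfl fun j _ => _root_.mul_comm _ _

/-- The matrix of translations on a stable space. -/
theorem exists_fnMat {V : Submodule k (Fn G)} (hV : ∀ (x : T0 k ⟶ G), ∀ v ∈ V, R x v ∈ V)
    {κ : Type u} [Fintype κ] [DecidableEq κ] (b : Module.Basis κ k V) :
    ∃ A : FnMat G κ, ∀ (x : T0 k ⟶ G) (c : κ), R x (b c : Fn G) = ∑ a, ev x (A.F a c) • (b a : Fn G) := by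
  choose F hF using exists_coeff hV b
  have huniq : ∀ (p q : κ → k), (∑ a, p a • (b a : Fn G)) = ∑ a, q a • (b a : Fn G) → p = q := by
    intro p q h
    refine (Fintype.linearIndependent_iff.1 b.linearIndependent |> fun hb => funext fun a => ?_)
    refine sub_eq_zero.1 (hb (fun a => p a - q a) (Subtype.ext ?_) a)
    simp only [sub_smul, Finset.sum_sub_distrib, Submodule.coe_sub, Submodule.coe_sum, Submodule.coe_smul, h,
      sub_self, ZeroMemClass.coe_zero]
  refine ⟨⟨fun a c => F c a, fun a c => ?_, fun a c => ?_⟩, fun x c => hF c x⟩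
  · have h := hF c 1
    rw [R_one, AlgHom.id_apply] at h
    exact congrFun (huniq (fun a => ev (1 : T0 k ⟶ G) (F c a)) (fun a => if a = c then 1 else 0)
      (h.symm.trans (by simp [ite_smul]))) a
  · haveI : IsAffine (G ⊗ G).left := inferInstance
    refine ext_points fun z => ?_
    rw [ev_pull, map_sum, show z ≫ μ[G] = (z ≫ fst G G) * (z ≫ snd G G) by rw [Hom.mul_def, lift_comp_fst_snd]]
    simp only [map_mul, ev_pull]
    refine congrFun (huniq (fun a => ev ((z ≫ fst G G) * (z ≫ snd G G)) (F c a))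
      (fun a => ∑ r, ev (z ≫ fst G G) (F r a) * ev (z ≫ snd G G) (F c r)) ?_) a
    rw [← hF c, Fn.R_mul, AlgHom.comp_apply, hF c, map_sum]
    simp only [map_smul, hF, Finset.smul_sum, smul_smul, Finset.sum_smul]
    rw [Finset.sum_comm]
    exact Finset.sum_congr rfl fun a _ => Finset.sum_congr rfl fun r _ => by rw [_root_.mul_comm]

/-- Copies of a stable space as a module, with its action on rational points. -/
theorem exists_gmod_pi_apply {V : Submodule k (Fn G)} [FiniteDimensional k V]
    (hV : ∀ (x : T0 k ⟶ G), ∀ v ∈ V, R x v ∈ V) (σ : Type u) [Fintype σ] :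
    ∃ ρ : VecGrp.GMod G (σ → V), ∀ (g : VecGrp.pt k k ⟶ G) (v : σ → V),
      ρ.ρ k g ((1 : k) ⊗ₜ[k] v) = (1 : k) ⊗ₜ[k] (fun s => (⟨R (e0 ≫ g) (v s : Fn G), hV _ _ (v s).2⟩ : V)) := by
  classical
  let b : Module.Basis (ULift.{u} (Fin (Module.finrank k V))) k V :=
    (Module.finBasis k V).reindex Equiv.ulift.symm
  obtain ⟨A, hA⟩ := exists_fnMat hV b
  let bb := Pi.basis (fun _ : σ => b)
  let AA : FnMat G (Σ _ : σ, ULift.{u} (Fin (Module.finrank k V))) :=
    { F := fun p q => if p.1 = q.1 then A.F p.2 q.2 else 0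
      one := fun p q => by
        obtain ⟨s, a⟩ := p
        obtain ⟨t, c⟩ := q
        by_cases h : s = t
        · subst h; simp [A.one]
        · simp [h]
      mul := fun p q => by
        obtain ⟨s, a⟩ := p
        obtain ⟨t, c⟩ := q
        rw [Fintype.sum_sigma]
        by_cases h : s = t
        · subst h
          rw [Finset.sum_eq_single s (fun r _ hr => by simp [Ne.symm hr]) (by simp)]
          simp [A.mul]
        · simp only [h, if_false, map_zero]
          refine (Finset.sum_eq_zero fun r _ => Finset.sum_eq_zero fun x _ => ?_).symm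
          by_cases h1 : s = r
          · subst h1; simp [h]
          · simp [h1] }
  have hbb : ∀ t c s, bb ⟨t, c⟩ s = if s = t then b c else 0 := fun t c s => by
    simp only [bb, Pi.basis_apply, Pi.single_apply]
  refine ⟨AA.gmod bb, fun g v => ?_⟩
  let x := e0 ≫ g
  let Φ : (σ → V) →ₗ[k] (σ → V) :=
    LinearMap.pi fun s => ((R x).toLinearMap.restrict (p := V) (q := V) (fun w hw => hV x w hw)).comp (LinearMap.proj s)
  have hΦ : ∀ w : σ → V, (AA.gmod bb).ρ k g ((1 : k) ⊗ₜ[k] w) = (1 : k) ⊗ₜ[k] Φ w := by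
    have hlin : (((AA.gmod bb).ρ k g).toLinearMap.comp (TensorProduct.mk k k (σ → V) 1)) =
        (TensorProduct.mk k k (σ → V) 1).comp Φ := by
      refine bb.ext fun ⟨t, c⟩ => ?_
      change (AA.gmod bb).ρ k g ((1 : k) ⊗ₜ[k] bb ⟨t, c⟩) = (1 : k) ⊗ₜ[k] Φ (bb ⟨t, c⟩)
      rw [FnMat.gmod_rho_k]
      congr 1
      funext s
      refine Subtype.ext ?_
      rw [Fintype.sum_sigma, Finset.sum_eq_single t (fun r _ hr => by simp [AA, hr]) (by simp)]
      by_cases h : s = t
      · subst h
        simp [AA, Φ, x, hA, hbb]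
      · simp [AA, Φ, h, hbb]
    exact fun w => LinearMap.congr_fun hlin w
  exact hΦ v

/-- Copies of a stable space as a module. -/
theorem exists_gmod_pi {V : Submodule k (Fn G)} [FiniteDimensional k V]
    (hV : ∀ (x : T0 k ⟶ G), ∀ v ∈ V, R x v ∈ V) (σ : Type u) [Fintype σ] :
    ∃ ρ : VecGrp.GMod G (σ → V), ∀ (g : VecGrp.pt k k ⟶ G) (v : σ → V),
      ρ.ρ k g ((1 : k) ⊗ₜ[k] v) = (1 : k) ⊗ₜ[k] v ↔ ∀ s, R (e0 ≫ g) (v s : Fn G) = v s := by
  obtain ⟨ρ, hρ⟩ := exists_gmod_pi_apply hV σ
  refine ⟨ρ, fun g v => ?_⟩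
  rw [hρ]
  constructor
  · intro h s
    have h' := congrArg (fun z => (TensorProduct.lid k (σ → V) z) s) h
    simp only [TensorProduct.lid_tmul, one_smul] at h'
    exact congrArg Subtype.val h'
  · intro h
    congr 1
    funext s
    exact Subtype.ext (h s)

end Stable

end Groth.Agent.H19Obs
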