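import Groth.Agent.H19Obs.Trans
import Groth.Agent.H19Obs.RegRep
import Mathlib

/-!
# Observability and extensions of modules
-/

set_option autoImplicit false
set_option maxHeartbeats 1000000
set_option synthInstance.maxHeartbeats 200000
set_option linter.style.haveILetI false
set_option backward.isDefEq.respectTransparency false

universe u

open CategoryTheory CategoryTheory.Limits MonoidalCategory CartesianMonoidalCategory MonObj AlgebraicGeometry
open scoped TensorProduct
open Groth.Agent.H27Witt Groth.Agent.H27Witt.Fn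

noncomputable section

namespace Groth.Agent.H19Obs

attribute [local instance 2000] Hom.group Hom.monoid

variable {k : Type u} [Field k]

section Det

variable {G K : Over (Sk k)} [GrpObj G] [GrpObj K] (j : K ⟶ G) (W : Submodule k (Fn G))

/-- The functions of a stable space vanishing on a subgroup. -/
abbrev idl : Submodule k (Fn G) := W ⊓ LinearMap.ker (pull j).toLinearMap

/-- A determinant model of the functions of a stable space vanishing on a subgroup. -/
structure DetData where
  /-- the index set -/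
  κ : Type u
  [fin : Fintype κ]
  [dec : DecidableEq κ]
  /-- the functions -/
  w : κ → Fn G
  mem : ∀ c, w c ∈ idl j W
  span : ∀ v ∈ idl j W, ∃ c : κ → k, v = ∑ r, c r • w r
  /-- the weight -/
  χ : (T0 k ⟶ K) → k
  χ_mul : ∀ y y', χ (y * y') = χ y * χ y'
  /-- the normalising points -/
  p : κ → (T0 k ⟶ G)
  /-- the semi-invariant -/
  φ : Fn G
  p_det : (valMat p w).det ≠ 0
  weight : ∀ (q : κ → (T0 k ⟶ G)) (y : T0 k ⟶ K),
    (valMat (fun a => q a * (y ≫ j)) w).det = χ y * (valMat q w).det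
  φ_one : ev (1 : T0 k ⟶ G) φ = 1
  φ_weight : ∀ x y, ev (x * (y ≫ j)) φ = χ y * ev x φ
  block : ∀ (z : Fn G) (y : T0 k ⟶ K) (q : PUnit.{u+1} ⊕ κ → (T0 k ⟶ G)),
    (valMat (fun a => q a * (y ≫ j)) (Sum.elim (fun _ => z) w)).det =
      χ y * (valMat q (Sum.elim (fun _ => R (y ≫ j) z) w)).det
  congr : ∀ (v v' : Fn G) (q : PUnit.{u+1} ⊕ κ → (T0 k ⟶ G)), v - v' ∈ idl j W →
    (valMat q (Sum.elim (fun _ => v) w)).det = (valMat q (Sum.elim (fun _ => v') w)).det
  sep : ∀ v : Fn G, (∀ q : PUnit.{u+1} ⊕ κ → (T0 k ⟶ G),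
    (valMat q (Sum.elim (fun _ => v) w)).det = 0) → v ∈ idl j W

attribute [instance] DetData.fin DetData.dec

variable [IsMonHom j] [IsAlgClosed k] [IsAffine G.left] [Smooth G.hom]

theorem exists_detData [FiniteDimensional k W] (hW : ∀ (x : T0 k ⟶ G), ∀ v ∈ W, R x v ∈ W) :
    Nonempty (DetData j W) := by
  classical
  let W' := idl j W
  haveI : FiniteDimensional k W' := Submodule.finiteDimensional_of_le inf_le_left
  let κ := ULift.{u} (Fin (Module.finrank k W'))
  let b : Module.Basis κ k W' := (Module.finBasis k W').reindex Equiv.ulift.symm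
  let w : κ → Fn G := fun c => (b c : Fn G)
  have hwli : LinearIndependent k w := b.linearIndependent.map' W'.subtype (Submodule.ker_subtype _)
  have hW' : ∀ y : T0 k ⟶ K, ∀ v ∈ W', R (y ≫ j) v ∈ W' := fun y v hv => by
    refine ⟨hW _ _ hv.1, ?_⟩
    change pull j (R (y ≫ j) v) = 0
    rw [pull_R, show pull j v = 0 from hv.2, map_zero]
  have hmem : ∀ v ∈ W', ∃ c : κ → k, v = ∑ r, c r • w r := fun v hv => by
    refine ⟨fun r => b.repr ⟨v, hv⟩ r, ?_⟩
    have h3 := congrArg W'.subtype (b.sum_repr ⟨v, hv⟩)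
    rw [map_sum] at h3
    exact h3.symm
  choose M hM using fun (y : T0 k ⟶ K) (c : κ) => hmem _ (hW' y _ (b c).2)
  let χ : (T0 k ⟶ K) → k := fun y => (Matrix.of fun r c => M y c r).det
  obtain ⟨p, hp⟩ := exists_points_det_ne_zero w hwli
  let φ : Fn G := (valMat p w).det⁻¹ • (transMat p w).det
  have hev : ∀ x, ev x φ = (valMat p w).det⁻¹ * (valMat (fun a => p a * x) w).det := fun x => by
    rw [map_smul, ev_det_transMat, smul_eq_mul]
  have hφ1 : ev (1 : T0 k ⟶ G) φ = 1 := by
    rw [hev]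
    simp only [_root_.mul_one]
    exact inv_mul_cancel₀ hp
  have hφ : ∀ x y, ev (x * (y ≫ j)) φ = χ y * ev x φ := fun x y => by
    simp only [hev, ← _root_.mul_assoc]
    rw [valMat_translate (fun a => p a * x) w (y ≫ j) (Matrix.of fun r c => M y c r) (hM y), Matrix.det_mul]
    ring
  have hcongr : ∀ (v v' : Fn G) (q : PUnit.{u+1} ⊕ κ → (T0 k ⟶ G)), v - v' ∈ W' →
      (valMat q (Sum.elim (fun _ => v) w)).det = (valMat q (Sum.elim (fun _ => v') w)).det := by
    intro v v' q hv
    obtain ⟨c, hc⟩ := hmem _ hv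
    have hv' : v = v' + ∑ r, c r • w r := by rw [← hc, add_sub_cancel]
    have h1 : valMat q (Sum.elim (fun _ => v) w) = valMat q (Sum.elim (fun _ => v') w) *
        Matrix.fromBlocks (1 : Matrix PUnit.{u+1} PUnit.{u+1} k) 0 (Matrix.of fun r _ => c r) (1 : Matrix κ κ k) := by
      ext a d
      rw [Matrix.mul_apply, Fintype.sum_sum_type]
      rcases d with d | d
      · simp [valMat, hv', _root_.mul_comm]
      · simp only [valMat, Matrix.of_apply, Sum.elim_inl, Sum.elim_inr, Matrix.fromBlocks_apply₁₂,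
          Matrix.fromBlocks_apply₂₂, Matrix.zero_apply, mul_zero, Finset.sum_const_zero, zero_add,
          Matrix.one_apply, mul_ite, _root_.mul_one]
        refine Eq.symm ((Finset.sum_eq_single d (fun r _ hr => if_neg hr)
          (fun h => absurd (Finset.mem_univ d) h)).trans (if_pos rfl))
    rw [h1, Matrix.det_mul, Matrix.det_fromBlocks_zero₁₂, Matrix.det_one, Matrix.det_one, _root_.mul_one,
      _root_.mul_one]
  refine ⟨{
    κ := κ
    w := w
    mem := fun c => (b c).2
    span := hmem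
    χ := χ
    χ_mul := fun y y' => ?_
    p := p
    φ := φ
    p_det := hp
    weight := fun q y => by
      rw [valMat_translate q w (y ≫ j) (Matrix.of fun r c => M y c r) (hM y), Matrix.det_mul, _root_.mul_comm]
    φ_one := hφ1
    φ_weight := hφ
    block := fun z y q => ?_
    congr := hcongr
    sep := fun v hv => ?_ }⟩
  · have he : ∀ y, ev (y ≫ j) φ = χ y := fun y => by
      have h0 := hφ 1 y
      rwa [_root_.one_mul, hφ1, _root_.mul_one] at h0
    rw [← he (y * y'), MonObj.mul_comp, hφ, he, _root_.mul_comm]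
  · have h1 : valMat (fun a => q a * (y ≫ j)) (Sum.elim (fun _ => z) w) =
        valMat q (Sum.elim (fun _ => R (y ≫ j) z) w) *
          Matrix.fromBlocks (1 : Matrix PUnit.{u+1} PUnit.{u+1} k) 0 0 (Matrix.of fun r c => M y c r) := by
      ext a c
      change ev (q a * (y ≫ j)) (Sum.elim (fun _ => z) w c) = _
      rw [← ev_R, Matrix.mul_apply, Fintype.sum_sum_type]
      rcases c with c | c
      · simp [valMat]
      · simp [valMat, w, hM, _root_.mul_comm]
    rw [h1, Matrix.det_mul, Matrix.det_fromBlocks_zero₁₂, Matrix.det_one, _root_.one_mul, _root_.mul_comm]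
  · by_contra hvW
    have hv0 : v ≠ 0 := fun h0 => hvW (by rw [h0]; exact W'.zero_mem)
    have hli : LinearIndependent k (Sum.elim (fun _ : PUnit.{u+1} => v) w) := by
      refine linearIndependent_sum.2 ⟨LinearIndependent.of_subsingleton PUnit.unit hv0, hwli, ?_⟩
      simp only [Sum.elim_comp_inl, Sum.elim_comp_inr, Set.range_const]
      rw [disjoint_comm, Submodule.disjoint_span_singleton' hv0]
      intro h
      exact hvW ((Submodule.span_le.2 (by rintro _ ⟨c, rfl⟩; exact (b c).2)) h)
    obtain ⟨q, hq⟩ := exists_points_det_ne_zero _ hli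
    exact hq (hv q)

omit [IsMonHom j] [IsAlgClosed k] [IsAffine G.left] [Smooth G.hom] in
/-- The determinant is linear in the extra function. -/
theorem DetData.exists_linearMap (D : DetData j W) (q : PUnit.{u+1} ⊕ D.κ → (T0 k ⟶ G)) :
    ∃ Δ : Fn G →ₗ[k] Fn G, ∀ z x,
      ev x (Δ z) = (valMat (fun a => q a * x) (Sum.elim (fun _ => z) D.w)).det := by
  classical
  have hcol : ∀ z : Fn G, transMat q (Sum.elim (fun _ => z) D.w) =
      (transMat q (Sum.elim (fun _ => (0 : Fn G)) D.w)).updateCol (Sum.inl PUnit.unit) (fun a => L (q a) z) := by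
    intro z
    ext a d
    rcases d with d | d <;> simp [transMat]
  refine ⟨{ toFun := fun z => (transMat q (Sum.elim (fun _ => z) D.w)).det
            map_add' := fun z z' => by
              rw [hcol, hcol z, hcol z', ← Matrix.det_updateCol_add]
              congr 2
              funext a
              exact map_add _ _ _
            map_smul' := fun c z => by
              rw [hcol, hcol z, RingHom.id_apply, Algebra.smul_def c z, Algebra.smul_def, ← Matrix.det_updateCol_smul]
              congr 2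
              funext a
              simp }, fun z x => ev_det_transMat _ _ _⟩

end Det

section Coef

variable {G : Over (Sk k)} [GrpObj G] [IsAffine G.left] {M : Type u} [AddCommGroup M] [Module k M]
  (ρ : VecGrp.GMod G M)

/-- A matrix coefficient as a function on the group. -/
def coefFn (ℓ : M →ₗ[k] k) (v : M) : Fn G :=
  letI : Algebra k Γ(G.left, ⊤) := H19Grp.algTop G
  H19Grp.coef Γ(G.left, ⊤) ℓ (ρ.ρ Γ(G.left, ⊤) (H19Grp.upt G) ((1 : Γ(G.left, ⊤)) ⊗ₜ[k] v))

theorem coef_rho (ℓ : M →ₗ[k] k) (v : M) (B : Type u) [CommRing B] [Algebra k B] (g : VecGrp.pt k B ⟶ G) :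
    H19Grp.coef B ℓ (ρ.ρ B g ((1 : B) ⊗ₜ[k] v)) = (specAlg B).symm (pull g (coefFn ρ ℓ v)) := by
  letI : Algebra k Γ(G.left, ⊤) := H19Grp.algTop G
  rw [H19Grp.coef_gmod_eq_ptHom ρ v ℓ g]
  rfl

theorem ev_coefFn (ℓ : M →ₗ[k] k) (v : M) (x : T0 k ⟶ G) :
    ev x (coefFn ρ ℓ v) = H19Grp.coef k ℓ (ρ.ρ k (e1 ≫ x) ((1 : k) ⊗ₜ[k] v)) := by
  rw [coef_rho, specAlg_symm_pull, ← Category.assoc, e0_e1, Category.id_comp]

end Coef

variable [IsAlgClosed k] {G H : Over (Sk k)} [GrpObj G] [IsAffine G.left] [Smooth G.hom]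
  [GrpObj H] [IsAffine H.left] [Smooth H.hom]

omit [Smooth G.hom] in
/-- A linear map equivariant on rational points is equivariant. -/
theorem equivariant_of_points (i : H ⟶ G) {V M : Type u} [AddCommGroup V] [Module k V] [AddCommGroup M] [Module k M]
    (σ : VecGrp.GMod H V) (ρ : VecGrp.GMod G M) (φ : V →ₗ[k] M)
    (h : ∀ (y : T0 k ⟶ H) (v : V), φ.baseChange k (σ.ρ k (e1 ≫ y) ((1 : k) ⊗ₜ[k] v)) =
      ρ.ρ k (e1 ≫ y ≫ i) ((1 : k) ⊗ₜ[k] φ v)) :
    ∀ (B : Type u) [CommRing B] [Algebra k B] (g : VecGrp.pt k B ⟶ H) (x : B ⊗[k] V),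
      φ.baseChange B (σ.ρ B g x) = ρ.ρ B (g ≫ i) (φ.baseChange B x) := by
  intro B _ _ g x
  have hc : ∀ (C : Type u) [CommRing C] [Algebra k C] (ℓ : M →ₗ[k] k) (z : C ⊗[k] V),
      H19Grp.coef C ℓ (φ.baseChange C z) = H19Grp.coef C (ℓ ∘ₗ φ) z := by
    intro C _ _ ℓ z
    induction z using TensorProduct.induction_on with
    | zero => simp
    | tmul c m => simp
    | add x y hx hy => simp only [map_add, hx, hy]
  have hext : ∀ (z z' : VecGrp.W k M B), (∀ ℓ, H19Grp.coef B ℓ z = H19Grp.coef B ℓ z') → z = z' := by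
    intro z z' hzz
    let b := Module.Basis.ofVectorSpace k M
    refine (Algebra.TensorProduct.basis B b).repr.injective (Finsupp.ext fun j => ?_)
    have hr : ∀ z : VecGrp.W k M B, (Algebra.TensorProduct.basis B b).repr z j = H19Grp.coef B (b.coord j) z := by
      intro z
      induction z using TensorProduct.induction_on with
      | zero => simp
      | tmul c m => simp [Algebra.TensorProduct.basis_repr_tmul, Algebra.smul_def, _root_.mul_comm]
      | add x y hx hy => simp only [map_add, Finsupp.add_apply, hx, hy]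
    rw [hr, hr, hzz]
  induction x using TensorProduct.induction_on with
  | zero => simp
  | add x y hx hy => simp only [map_add, hx, hy]
  | tmul c v =>
    rw [show c ⊗ₜ[k] v = c • ((1 : B) ⊗ₜ[k] v) by rw [TensorProduct.smul_tmul', smul_eq_mul, _root_.mul_one]]
    simp only [map_smul, LinearMap.baseChange_tmul]
    congr 1
    refine hext _ _ fun ℓ => ?_
    rw [hc, coef_rho σ (ℓ ∘ₗ φ) v B g, coef_rho ρ ℓ (φ v) B (g ≫ i), ← pull_pull]
    congr 2
    refine ext_points fun y => ?_
    rw [ev_pull, ev_coefFn, ev_coefFn, ← hc, h]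

omit [GrpObj H] [IsAffine H.left] [Smooth H.hom] in
/-- Families with proportional Plücker coordinates span the same space. -/
theorem mem_span_of_det_proportional {κ : Type u} [Fintype κ] [DecidableEq κ] (w : κ → Fn G)
    (p : κ → (T0 k ⟶ G)) (x : T0 k ⟶ G) (a b : k) (hb : b ≠ 0) (hp : (valMat p w).det ≠ 0)
    (hkey : ∀ q : κ → (T0 k ⟶ G), (valMat (fun i => q i * x) w).det * a = (valMat q w).det * b) (c : κ) :
    R x (w c) ∈ Submodule.span k (Set.range w) := by
  classical
  let A := valMat p w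
  let B := valMat (fun i => p i * x) w
  have hpa := hkey p
  have ha : a ≠ 0 := fun h => by
    rw [h, mul_zero] at hpa
    exact mul_ne_zero hp hb hpa.symm
  have hB : B.det ≠ 0 := fun h => by
    rw [show (valMat (fun i => p i * x) w).det = 0 from h, zero_mul] at hpa
    exact mul_ne_zero hp hb hpa.symm
  let Lf : κ → Fn G := fun i => ∑ d, A.transpose.adjugate i d • w d
  have hL : ∀ z i, ev z (Lf i) = (valMat (Function.update p i z) w).det := fun z i => by
    have h1 : ev z (Lf i) = A.transpose.cramer (fun d => ev z (w d)) i := by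
      rw [Matrix.cramer_eq_adjugate_mulVec]
      simp [Lf, Matrix.mulVec, dotProduct]
    rw [h1, Matrix.cramer_transpose_apply]
    congr 1
    ext r d
    rcases eq_or_ne r i with rfl | hr
    · simp [A, valMat]
    · simp [A, valMat, hr]
  have hu : B.det • R x (w c) = ∑ i, (B i c * (b / a)) • Lf i := by
    refine ext_points fun z => ?_
    have h1 := congrFun (Matrix.mulVec_cramer B.transpose (fun d => ev z (R x (w d)))) c
    rw [map_smul, map_sum]
    simp only [map_smul, Pi.smul_apply, Matrix.det_transpose] at h1 ⊢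
    rw [← h1, Matrix.mulVec, dotProduct]
    refine Finset.sum_congr rfl fun i _ => ?_
    rw [Matrix.cramer_transpose_apply, hL, Matrix.transpose_apply, smul_eq_mul, _root_.mul_assoc]
    congr 1
    rw [div_mul_eq_mul_div, eq_div_iff ha, _root_.mul_comm b, ← hkey]
    congr 2
    ext r d
    rcases eq_or_ne r i with rfl | hr
    · simp [B, valMat, ev_R]
    · simp [B, valMat, hr, ev_R]
  rw [show R x (w c) = B.det⁻¹ • (B.det • R x (w c)) from (inv_smul_smul₀ hB _).symm, hu]
  exact Submodule.smul_mem _ _ (Submodule.sum_mem _ fun i _ => Submodule.smul_mem _ _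
    (Submodule.sum_mem _ fun d _ => Submodule.smul_mem _ _ (Submodule.subset_span ⟨d, rfl⟩)))

variable (i : H ⟶ G) [IsMonHom i]

omit [IsAlgClosed k] [GrpObj G] [IsAffine H.left] [Smooth G.hom] [GrpObj H] [Smooth H.hom] [IsMonHom i] in
theorem pull_surjective [IsClosedImmersion i.left] : Function.Surjective (pull i) :=
  Scheme.Hom.app_surjective i.left ⊤ (isAffineOpen_top _)

/-- An observable subgroup has the extension property. -/
theorem extendsAlong_of_observable [IsClosedImmersion i.left] (hobs : AGF.IsObservableIn k i)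
    {V : Type u} [AddCommGroup V] [Module k V] [Module.Finite k V] (σ : VecGrp.GMod H V) :
    σ.ExtendsAlong i := by
  classical
  obtain ⟨s, hs, hsep⟩ := exists_separating (k := k) i
  have hs' : ∀ f ∈ s, f ∈ invAlg i := fun f hf => (isRTransInv_iff i f).1 (hs f hf)
  have hsep' : ∀ x x' : T0 k ⟶ G, (∀ f ∈ s, ev x f = ev x' f) → ∃ y : T0 k ⟶ H, x' = x * (y ≫ i) := by
    intro x x' h
    obtain ⟨h', hh'⟩ := hobs _ (hull_of_sep i (hsep x x' h))
    refine ⟨e0 ≫ h', ?_⟩
    rw [Category.assoc, hh', ← Category.assoc, e0_e1, Category.id_comp, mul_inv_cancel_left]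
  let b : Module.Basis (ULift.{u} (Fin (Module.finrank k V))) k V :=
    (Module.finBasis k V).reindex Equiv.ulift.symm
  let C : ULift.{u} (Fin (Module.finrank k V)) → V →ₗ[k] Fn H := fun c =>
    { toFun := fun v => coefFn σ (b.coord c) v
      map_add' := fun v v' => ext_points fun y => by
        simp only [map_add, ev_coefFn, TensorProduct.tmul_add]
      map_smul' := fun a v => ext_points fun y => by
        simp only [RingHom.id_apply, map_smul, ev_coefFn, TensorProduct.tmul_smul] }
  obtain ⟨sec, hsec⟩ := (pull i).toLinearMap.exists_rightInverse_of_surjective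
    (LinearMap.range_eq_top.2 (pull_surjective i))
  have hsec' : ∀ f, pull i (sec f) = f := fun f => LinearMap.congr_fun hsec f
  obtain ⟨W, hfin, hbW, hW⟩ := exists_stable_finset (G := G)
    (Finset.univ.image fun ca : _ × _ => sec (C ca.1 (b ca.2)))
  have hCW : ∀ c v, sec (C c v) ∈ W := fun c v => by
    rw [← b.sum_repr v, map_sum, map_sum]
    refine Submodule.sum_mem _ fun a _ => ?_
    rw [map_smul, map_smul]
    exact W.smul_mem _ (hbW _ (Finset.mem_image.2 ⟨(c, a), Finset.mem_univ _, rfl⟩))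
  obtain ⟨D⟩ := exists_detData i W hW
  obtain ⟨ψ, hψ1, hψ⟩ := exists_semiInv i s hs' hsep' D.φ D.χ D.φ_one D.φ_weight
  choose Δ hΔ using D.exists_linearMap (W := W)
  let Θ : (PUnit.{u+1} ⊕ D.κ → (T0 k ⟶ G)) → ULift.{u} (Fin (Module.finrank k V)) → V →ₗ[k] Fn G :=
    fun q c => (LinearMap.mulRight k ψ).comp ((Δ q).comp (sec.comp (C c)))
  have hΘ : ∀ q c v x, ev x (Θ q c v) =
      (valMat (fun a => q a * x) (Sum.elim (fun _ => sec (C c v)) D.w)).det * ev x ψ := fun q c v x => by
    show ev x (Δ q (sec (C c v)) * ψ) = _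
    rw [map_mul, hΔ]
  let σk : (T0 k ⟶ H) → V →ₗ[k] V := fun y =>
    (TensorProduct.lid k V).toLinearMap.comp ((σ.ρ k (e1 ≫ y)).toLinearMap.comp (TensorProduct.mk k k V 1))
  have hσk : ∀ y v, σ.ρ k (e1 ≫ y) ((1 : k) ⊗ₜ[k] v) = (1 : k) ⊗ₜ[k] σk y v := fun y v => by
    show _ = (1 : k) ⊗ₜ[k] TensorProduct.lid k V (σ.ρ k (e1 ≫ y) ((1 : k) ⊗ₜ[k] v))
    exact (((TensorProduct.lid k V).symm_apply_apply _).symm.trans (TensorProduct.lid_symm_apply _))
  have hC : ∀ c v y z, ev z (C c (σk y v)) = ev (z * y) (C c v) := fun c v y z => by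
    show ev z (coefFn σ _ _) = ev (z * y) (coefFn σ _ _)
    rw [ev_coefFn, ev_coefFn, ← hσk, MonObj.comp_mul, map_mul, LinearEquiv.mul_apply]
  have hequiv : ∀ q c (y : T0 k ⟶ H) v, R (y ≫ i) (Θ q c v) = Θ q c (σk y v) := fun q c y v => by
    refine ext_points fun x => ?_
    have hd : R (y ≫ i) (sec (C c v)) - sec (C c (σk y v)) ∈ idl i W := by
      refine ⟨sub_mem (hW _ _ (hCW c v)) (hCW c _), ?_⟩
      show pull i (R (y ≫ i) (sec (C c v)) - sec (C c (σk y v))) = 0
      rw [map_sub, pull_R, hsec', hsec', sub_eq_zero]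
      exact ext_points fun z => by rw [ev_R, hC]
    rw [ev_R, hΘ, hΘ]
    simp only [← _root_.mul_assoc]
    rw [D.block _ y fun a => q a * x, D.congr _ _ _ hd, mul_right_comm, hψ, _root_.mul_comm]
  let κerΘ : Finset (PUnit.{u+1} ⊕ D.κ → (T0 k ⟶ G)) → Submodule k V := fun t =>
    ⨅ q ∈ t, ⨅ c, LinearMap.ker (Θ q c)
  obtain ⟨_, ⟨t, rfl⟩, ht⟩ := IsArtinian.set_has_minimal (Set.range κerΘ) ⟨_, ⟨∅, rfl⟩⟩
  have hinj : ∀ v, (∀ q ∈ t, ∀ c, Θ q c v = 0) → v = 0 := by
    intro v hv
    have hvt : v ∈ κerΘ t := by simpa [κerΘ, Submodule.mem_iInf] using hv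
    have hall : ∀ q c, Θ q c v = 0 := by
      intro q c
      have hle : κerΘ (insert q t) ≤ κerΘ t :=
        biInf_mono fun x hx => Finset.mem_insert_of_mem hx
      have heq : κerΘ (insert q t) = κerΘ t := by
        by_contra hne
        exact ht _ ⟨_, rfl⟩ (lt_of_le_of_ne hle hne)
      rw [← heq] at hvt
      simp only [κerΘ, Submodule.mem_iInf] at hvt
      exact hvt q (Finset.mem_insert_self _ _) c
    have hC0 : ∀ c, C c v = 0 := fun c => by
      have h1 : sec (C c v) ∈ idl i W := D.sep _ fun q => by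
        have h0 := congrArg (ev 1) (hall q c)
        rw [map_zero, hΘ, mul_eq_zero, or_iff_left hψ1] at h0
        simpa only [_root_.mul_one] using h0
      have h2 : pull i (sec (C c v)) = 0 := h1.2
      rwa [hsec'] at h2
    refine b.repr.injective (Finsupp.ext fun c => ?_)
    have h3 : ev 1 (coefFn σ (b.coord c) v) = 0 := by
      show ev 1 (C c v) = 0
      rw [hC0, map_zero]
    rw [ev_coefFn, MonObj.comp_one, map_one] at h3
    simpa using h3
  let σT := {q // q ∈ t} × ULift.{u} (Fin (Module.finrank k V))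
  obtain ⟨U, hfinU, hΘU, hU⟩ := exists_stable_finset (G := G)
    (Finset.univ.image fun sa : σT × ULift.{u} (Fin (Module.finrank k V)) => Θ sa.1.1.1 sa.1.2 (b sa.2))
  have hmemU : ∀ (sc : σT) v, Θ sc.1.1 sc.2 v ∈ U := fun sc v => by
    rw [← b.sum_repr v, map_sum]
    refine Submodule.sum_mem _ fun a _ => ?_
    rw [map_smul]
    exact U.smul_mem _ (hΘU _ (Finset.mem_image.2 ⟨(sc, a), Finset.mem_univ _, rfl⟩))
  obtain ⟨ρ, hρ⟩ := exists_gmod_pi_apply hU σT
  let emb : V →ₗ[k] (σT → U) := LinearMap.pi fun sc => (Θ sc.1.1 sc.2).codRestrict U (hmemU sc)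
  refine ⟨σT → U, inferInstance, inferInstance, inferInstance, ρ, emb, ?_, ?_⟩
  · refine (injective_iff_map_eq_zero emb).2 fun v hv => hinj v fun q hq c => ?_
    exact congrArg (fun w : σT → U => (w (⟨q, hq⟩, c) : Fn G)) hv
  · intro B _ _ g x
    refine equivariant_of_points i σ ρ emb (fun y v => ?_) B g x
    rw [hσk, LinearMap.baseChange_tmul, hρ, ← Category.assoc e0 e1, e0_e1, Category.id_comp]
    congr 1
    funext sc
    exact Subtype.ext (hequiv _ _ _ _).symm

/-- A translation preserving the functions which vanish on a subgroup lies in the subgroup. -/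
theorem exists_of_R_mem [IsClosedImmersion i.left] (S : Finset (Fn G))
    (hS : Ideal.span (S : Set (Fn G)) = RingHom.ker (pull i)) {W : Submodule k (Fn G)} (hSW : ∀ f ∈ S, f ∈ W)
    (D : DetData i W) (x : T0 k ⟶ G) (hspan : ∀ c, R x (D.w c) ∈ Submodule.span k (Set.range D.w)) :
    ∃ y : T0 k ⟶ H, y ≫ i = x := by
  classical
  have hker : ∀ f ∈ S, ev x f = 0 := by
    intro f hf
    obtain ⟨a, ha⟩ := D.span f ⟨hSW f hf, show pull i f = 0 from RingHom.mem_ker.1 (hS.le (Ideal.subset_span hf))⟩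
    have hRx : R x f ∈ idl i W := by
      rw [ha, map_sum]
      refine Submodule.sum_mem _ fun c _ => ?_
      rw [map_smul]
      exact Submodule.smul_mem _ _ ((Submodule.span_le.2 (by rintro _ ⟨c, rfl⟩; exact D.mem c)) (hspan c))
    have h0 : pull i (R x f) = 0 := hRx.2
    rw [← ev_one_R, ← MonObj.one_comp i, ← ev_pull, h0, map_zero]
  have hle : RingHom.ker (pull i) ≤ RingHom.ker (ev x) := hS ▸ Ideal.span_le.2 hker
  let τ : Fn H →ₐ[k] k := (Ideal.Quotient.liftₐ (RingHom.ker (pull i)) (ev x) hle).comp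
    (Ideal.quotientKerAlgEquivOfSurjective (pull_surjective i)).symm.toAlgHom
  obtain ⟨y, hy⟩ := exists_point τ
  refine ⟨y, point_ext (AlgHom.ext fun f => ?_)⟩
  rw [← ev_pull, hy]
  show Ideal.Quotient.liftₐ _ (ev x) hle ((Ideal.quotientKerAlgEquivOfSurjective (pull_surjective i)).symm (pull i f)) = _
  rw [Ideal.quotientKerAlgEquivOfSurjective_symm_apply (pull_surjective i)]
  rfl

/-- A semi-invariant of inverse determinant weight makes a subgroup observable. -/
theorem observable_of_invWeight [IsClosedImmersion i.left] (S : Finset (Fn G))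
    (hS : Ideal.span (S : Set (Fn G)) = RingHom.ker (pull i)) {W : Submodule k (Fn G)} (hSW : ∀ f ∈ S, f ∈ W)
    (D : DetData i W) (ψ : Fn G) (hψ : ∀ x y, ev (x * (y ≫ i)) ψ = D.χ y⁻¹ * ev x ψ)
    (hψ1 : ev (1 : T0 k ⟶ G) ψ ≠ 0) : AGF.IsObservableIn k i := by
  classical
  have hχ1 : D.χ 1 = 1 := by
    have h1 := D.φ_weight 1 1
    rwa [MonObj.one_comp, _root_.one_mul, D.φ_one, _root_.mul_one, eq_comm] at h1
  intro g hg
  refine (exists_lift i g).2 ?_
  let x := e0 ≫ g
  have hkey : ∀ q : D.κ → (T0 k ⟶ G),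
      (valMat (fun a => q a * x) D.w).det * ev x ψ = (valMat q D.w).det * ev 1 ψ := by
    intro q
    let F : Fn G := (transMat q D.w).det * ψ
    have hF : AGF.IsRTransInv i F := by
      refine (isRTransInv_iff i F).2 fun z y => ?_
      simp only [F, map_mul, ev_det_transMat, ← _root_.mul_assoc, hψ]
      have h3 : (valMat (fun a => q a * z * (y ≫ i)) D.w).det = D.χ y * (valMat (fun a => q a * z) D.w).det :=
        D.weight (fun a => q a * z) y
      rw [h3, mul_right_comm (D.χ y), ← D.χ_mul, mul_inv_cancel, hχ1, _root_.one_mul]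
    have h1 := (isRTransInv_pt_iff g F).1 (hg F hF) 1
    simpa only [F, map_mul, ev_det_transMat, _root_.mul_one, _root_.one_mul] using h1
  have hspan : ∀ c, R x (D.w c) ∈ Submodule.span k (Set.range D.w) := by
    intro c
    exact mem_span_of_det_proportional D.w D.p x _ _ hψ1 D.p_det hkey c
  exact exists_of_R_mem i S hS hSW D x hspan

/-- The extension property implies observability. -/
theorem observable_of_extendsAlong [IsClosedImmersion i.left]
    (hext : ∀ (V : Type u) [AddCommGroup V] [Module k V] [Module.Finite k V] (σ : VecGrp.GMod H V),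
      σ.ExtendsAlong i) : AGF.IsObservableIn k i := by
  classical
  haveI := finiteType G
  haveI := Algebra.FiniteType.isNoetherianRing k (Fn G)
  obtain ⟨S, hS⟩ := (RingHom.ker (pull i)).fg_of_isNoetherianRing
  obtain ⟨W, hfin, hSW, hW⟩ := exists_stable_finset (G := G) S
  obtain ⟨D⟩ := exists_detData i W hW
  let η' : Fn H := pull (𝟙 H)⁻¹ (pull i D.φ)
  have hη : ∀ y, ev y η' = D.χ y⁻¹ := fun y => by
    have h1 := D.φ_weight 1 y⁻¹
    rw [_root_.one_mul, D.φ_one, _root_.mul_one] at h1
    rw [ev_pull, GrpObj.comp_inv, Category.comp_id, ev_pull, h1]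
  have hχ1 : D.χ 1 = 1 := by
    have h1 := D.φ_weight 1 1
    rwa [MonObj.one_comp, _root_.one_mul, D.φ_one, _root_.mul_one, eq_comm] at h1
  let A : FnMat H PUnit.{u+1} :=
    { F := fun _ _ => η'
      one := fun a c => by rw [hη, inv_one, hχ1, if_pos (Subsingleton.elim a c)]
      mul := fun a c => by
        rw [Fintype.sum_unique]
        refine ext_points fun z => ?_
        rw [ev_pull, map_mul, show z ≫ μ[H] = (z ≫ fst H H) * (z ≫ snd H H) by
          rw [Hom.mul_def, lift_comp_fst_snd], hη, ev_pull z (fst H H) η', ev_pull z (snd H H) η', hη, hη,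
          mul_inv_rev, D.χ_mul, _root_.mul_comm] }
  let b := Pi.basisFun k PUnit.{u+1}
  obtain ⟨E, _, _, _, ρ, φ, hφ, heq⟩ := hext (PUnit.{u+1} → k) (A.gmod b)
  let v₀ := φ (b PUnit.unit)
  have hv₀ : v₀ ≠ 0 := fun h => b.ne_zero PUnit.unit ((injective_iff_map_eq_zero φ).1 hφ _ h)
  obtain ⟨ℓ, hℓ⟩ : ∃ ℓ : E →ₗ[k] k, ℓ v₀ ≠ 0 := by
    by_contra! h
    exact hv₀ ((Module.forall_dual_apply_eq_zero_iff k v₀).1 h)
  let ψ := coefFn ρ ℓ v₀
  have hψ : ∀ x y, ev (x * (y ≫ i)) ψ = D.χ y⁻¹ * ev x ψ := fun x y => by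
    have h1 := heq k (e1 ≫ y) ((1 : k) ⊗ₜ[k] b PUnit.unit)
    rw [LinearMap.baseChange_tmul, FnMat.gmod_rho_k, LinearMap.baseChange_tmul, map_sum, Fintype.sum_unique,
      map_smul, ← Category.assoc e0, e0_e1, Category.id_comp, TensorProduct.tmul_smul] at h1
    rw [ev_coefFn, ev_coefFn, MonObj.comp_mul, map_mul, LinearEquiv.mul_apply, ← Category.assoc, ← h1,
      show ev y (A.F default PUnit.unit) = D.χ y⁻¹ from hη y, ← algebraMap_smul k (D.χ y⁻¹), map_smul, map_smul]
    rfl
  have hψ1 : ev (1 : T0 k ⟶ G) ψ ≠ 0 := by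
    rw [ev_coefFn, MonObj.comp_one, map_one]
    simpa using hℓ
  exact observable_of_invWeight i S hS hSW D ψ hψ hψ1

end Groth.Agent.H19Obs
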