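import Groth.Agent.H19Obs.SemiInv
import Groth.Agent.H19Obs.RegRep
import Mathlib

/-!
# Extending invariant functions up to a semi-invariant factor, by determinants of translates
-/

set_option autoImplicit false
set_option maxHeartbeats 1000000
set_option synthInstance.maxHeartbeats 200000
set_option linter.style.haveILetI false
set_option backward.isDefEq.respectTransparency false

universe u

open CategoryTheory CategoryTheory.Limits MonoidalCategory CartesianMonoidalCategory MonObj AlgebraicGeometry
open Groth.Agent.H27Witt Groth.Agent.H27Witt.Fn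

noncomputable section

namespace Groth.Agent.H19Obs

attribute [local instance 2000] Hom.group Hom.monoid

variable {k : Type u} [Field k] {G : Over (Sk k)} [GrpObj G]

/-- The translates of a family of functions by a family of points. -/
def transMat {σ τ : Type u} (x : σ → (T0 k ⟶ G)) (u : τ → Fn G) : Matrix σ τ (Fn G) :=
  Matrix.of fun a c => L (x a) (u c)

/-- The values of a family of functions at a family of points. -/
def valMat {σ τ : Type u} (x : σ → (T0 k ⟶ G)) (u : τ → Fn G) : Matrix σ τ k :=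
  Matrix.of fun a c => ev (x a) (u c)

theorem ev_det_transMat {σ : Type u} [Fintype σ] [DecidableEq σ] (x : σ → (T0 k ⟶ G)) (u : σ → Fn G)
    (g : T0 k ⟶ G) : ev g (transMat x u).det = (valMat (fun a => x a * g) u).det := by
  rw [AlgHom.map_det]
  congr 1
  ext a c
  exact ev_L _ _ _

theorem valMat_translate {σ τ : Type u} [Fintype τ] (x : σ → (T0 k ⟶ G)) (u : τ → Fn G) (g : T0 k ⟶ G)
    (M : Matrix τ τ k) (hM : ∀ c, R g (u c) = ∑ r, M r c • u r) :
    valMat (fun a => x a * g) u = valMat x u * M := by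
  ext a c
  change ev (x a * g) (u c) = _
  rw [← ev_R, hM, map_sum, Matrix.mul_apply]
  exact Finset.sum_congr rfl fun r _ => by rw [map_smul, smul_eq_mul, _root_.mul_comm]; rfl

variable [IsAlgClosed k] [IsAffine G.left] [Smooth G.hom]

omit [GrpObj G] in
/-- Independent functions are separated by as many points. -/
theorem exists_points_det_ne_zero {σ : Type u} [Fintype σ] [DecidableEq σ] (u : σ → Fn G)
    (hu : LinearIndependent k u) : ∃ x : σ → (T0 k ⟶ G), (valMat x u).det ≠ 0 := by
  classical
  let W := Submodule.span k (Set.range u)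
  let E : (T0 k ⟶ G) → (σ → k) := fun x c => ev x (u c)
  have htop : Submodule.span k (Set.range E) = ⊤ := by
    by_contra hne
    obtain ⟨ℓ, hℓ, hℓ'⟩ := Submodule.exists_le_ker_of_lt_top _ (lt_top_iff_ne_top.2 hne)
    apply hℓ
    refine LinearMap.ext fun w => ?_
    have hsum : ∀ w : σ → k, ℓ w = ∑ c, w c * ℓ (Pi.single c 1) := fun w => by
      conv_lhs => rw [pi_eq_sum_univ' w]
      simp only [map_sum, map_smul, smul_eq_mul]
    have h0 : ∑ c, ℓ (Pi.single c 1) • u c = 0 := by
      refine ext_points fun x => ?_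
      rw [map_zero, map_sum]
      have h1 : ℓ (E x) = 0 := hℓ' (Submodule.subset_span ⟨x, rfl⟩)
      rw [hsum] at h1
      simpa [E, _root_.mul_comm] using h1
    have h2 := Fintype.linearIndependent_iff.1 hu _ h0
    rw [hsum, LinearMap.zero_apply]
    exact Finset.sum_eq_zero fun c _ => by rw [h2, mul_zero]
  obtain ⟨t, ht, hspan, hli⟩ := exists_linearIndependent k (Set.range E)
  let b := Module.Basis.mk hli (by rw [Subtype.range_coe, hspan, htop])
  let e : σ ≃ t := (Pi.basisFun k σ).indexEquiv b
  choose x hx using fun a => ht (e a).2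
  refine ⟨x, ?_⟩
  have hrow : LinearIndependent k (valMat x u).row := by
    rw [show (valMat x u).row = fun a => ((e a : t) : σ → k) from funext hx]
    exact hli.comp e e.injective
  exact ((Matrix.isUnit_iff_isUnit_det _).1 (Matrix.linearIndependent_rows_iff_isUnit.1 hrow)).ne_zero

variable {K : Over (Sk k)} [GrpObj K] (j : K ⟶ G) [IsMonHom j]

omit [IsAlgClosed k] [IsAffine G.left] [Smooth G.hom] in
theorem pull_R (y : T0 k ⟶ K) (f : Fn G) : pull j (R (y ≫ j) f) = R y (pull j f) := by
  rw [R, R, pull_pull, pull_pull]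
  congr 2
  rw [transHom, transHom, MonObj.comp_mul, MonObj.mul_comp, Category.comp_id, Category.id_comp,
    ← Category.assoc j, show j ≫ toT0 G = toT0 K from Over.OverMorphism.ext (Over.w _), Category.assoc]

/-- A point of `K` fixing, on `G`, all functions invariant under the points `P`, fixes the functions on `K`
invariant under `P`. -/
theorem R_eq_of_fixed (s : Finset (Fn G)) (hs : ∀ f ∈ s, f ∈ invAlg j)
    (hsep : ∀ x x' : T0 k ⟶ G, (∀ f ∈ s, ev x f = ev x' f) → ∃ y : T0 k ⟶ K, x' = x * (y ≫ j))
    (P : Set (T0 k ⟶ K)) (y₀ : T0 k ⟶ K)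
    (hg : ∀ F : Fn G, (∀ x, ∀ y ∈ P, ev (x * (y ≫ j)) F = ev x F) → ev (y₀ ≫ j) F = ev 1 F)
    (fh : Fn G) (hf : ∀ y ∈ P, R y (pull j fh) = pull j fh) :
    R y₀ (pull j fh) = pull j fh := by
  classical
  obtain ⟨W, hfin, hfW, hW⟩ := exists_stable_finset (G := G) {fh}
  let W' : Submodule k (Fn G) := W ⊓ LinearMap.ker (pull j).toLinearMap
  haveI : FiniteDimensional k W' := Submodule.finiteDimensional_of_le inf_le_left
  let κ := ULift.{u} (Fin (Module.finrank k W'))
  let b : Module.Basis κ k W' := (Module.finBasis k W').reindex Equiv.ulift.symm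
  let w : κ → Fn G := fun c => (b c : Fn G)
  have hwli : LinearIndependent k w := b.linearIndependent.map' W'.subtype (Submodule.ker_subtype _)
  have hW' : ∀ y : T0 k ⟶ K, ∀ v ∈ W', R (y ≫ j) v ∈ W' := fun y v hv => by
    refine ⟨hW _ _ hv.1, ?_⟩
    change pull j (R (y ≫ j) v) = 0
    rw [pull_R, show pull j v = 0 from hv.2, map_zero]
  have hmem : ∀ v ∈ W', ∃ c : κ → k, v = ∑ r, c r • w r := fun v hv => by
    refine ⟨fun r => b.repr ⟨v, hv⟩ r, ?_⟩
    have h3 := congrArg W'.subtype (b.sum_repr ⟨v, hv⟩)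
    rw [map_sum] at h3
    exact h3.symm
  choose M hM using fun (y : T0 k ⟶ K) (c : κ) => hmem _ (hW' y _ (b c).2)
  let χ : (T0 k ⟶ K) → k := fun y => (Matrix.of fun r c => M y c r).det
  obtain ⟨p, hp⟩ := exists_points_det_ne_zero w hwli
  let φ : Fn G := (valMat p w).det⁻¹ • (transMat p w).det
  have hφ1 : ev (1 : T0 k ⟶ G) φ = 1 := by
    rw [map_smul, ev_det_transMat, smul_eq_mul]
    simp only [_root_.mul_one]
    exact inv_mul_cancel₀ hp
  have hφ : ∀ x y, ev (x * (y ≫ j)) φ = χ y * ev x φ := fun x y => by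
    simp only [φ, map_smul, ev_det_transMat, smul_eq_mul, ← _root_.mul_assoc]
    rw [valMat_translate (fun a => p a * x) w (y ≫ j) (Matrix.of fun r c => M y c r) (hM y), Matrix.det_mul]
    ring
  obtain ⟨ψ, hψ1, hψ⟩ := exists_semiInv j s hs hsep φ χ hφ1 hφ
  let u : PUnit.{u+1} ⊕ κ → Fn G := Sum.elim (fun _ => fh) w
  have hblock : ∀ (y : T0 k ⟶ K) (q : PUnit.{u+1} ⊕ κ → (T0 k ⟶ G)),
      (valMat (fun a => q a * (y ≫ j)) u).det =
        χ y * (valMat q (Sum.elim (fun _ => R (y ≫ j) fh) w)).det := by
    intro y q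
    have h1 : valMat (fun a => q a * (y ≫ j)) u =
        valMat q (Sum.elim (fun _ => R (y ≫ j) fh) w) *
          Matrix.fromBlocks 1 0 0 (Matrix.of fun r c => M y c r) := by
      ext a c
      change ev (q a * (y ≫ j)) (u c) = _
      rw [← ev_R, Matrix.mul_apply, Fintype.sum_sum_type]
      rcases c with c | c
      · simp [u, valMat]
      · simp [u, valMat, w, hM, _root_.mul_comm]
    rw [h1, Matrix.det_mul, Matrix.det_fromBlocks_zero₁₂, Matrix.det_one, _root_.one_mul, _root_.mul_comm]
  have hmod : ∀ (v v' : Fn G) (q : PUnit.{u+1} ⊕ κ → (T0 k ⟶ G)), v - v' ∈ W' →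
      (valMat q (Sum.elim (fun _ => v) w)).det = (valMat q (Sum.elim (fun _ => v') w)).det := by
    intro v v' q hv
    obtain ⟨c, hc⟩ := hmem _ hv
    have hv' : v = v' + ∑ r, c r • w r := by rw [← hc, add_sub_cancel]
    have h1 : valMat q (Sum.elim (fun _ => v) w) =
        valMat q (Sum.elim (fun _ => v') w) * Matrix.fromBlocks (1 : Matrix PUnit.{u+1} PUnit.{u+1} k) 0 (Matrix.of fun r _ => c r) (1 : Matrix κ κ k) := by
      ext a d
      rw [Matrix.mul_apply, Fintype.sum_sum_type]
      rcases d with d | d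
      · simp [valMat, hv', _root_.mul_comm]
      · simp only [valMat, Matrix.of_apply, Sum.elim_inl, Sum.elim_inr, Matrix.fromBlocks_apply₁₂, Matrix.fromBlocks_apply₂₂, Matrix.zero_apply, mul_zero, Finset.sum_const_zero, zero_add, Matrix.one_apply, mul_ite, _root_.mul_one]
        refine Eq.symm ((Finset.sum_eq_single d (fun r _ hr => if_neg hr) (fun h => absurd (Finset.mem_univ d) h)).trans (if_pos rfl))
    rw [h1, Matrix.det_mul, Matrix.det_fromBlocks_zero₁₂, Matrix.det_one, Matrix.det_one, _root_.mul_one,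
      _root_.mul_one]
  have hfix : ∀ y ∈ P, R (y ≫ j) fh - fh ∈ W' := fun y hy => by
    refine ⟨sub_mem (hW _ _ (hfW fh (Finset.mem_singleton_self _))) (hfW fh (Finset.mem_singleton_self _)), ?_⟩
    change pull j (R (y ≫ j) fh - fh) = 0
    rw [map_sub, pull_R, hf y hy, sub_self]
  have hkey : ∀ q : PUnit.{u+1} ⊕ κ → (T0 k ⟶ G),
      (valMat q (Sum.elim (fun _ => R (y₀ ≫ j) fh) w)).det = (valMat q u).det := by
    intro q
    let F : Fn G := (transMat q u).det * ψ
    have hF : ∀ x y, y ∈ P → ev (x * (y ≫ j)) F = ev x F := fun x y hy => by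
      simp only [F, map_mul, ev_det_transMat, ← _root_.mul_assoc]
      rw [hblock y fun a => q a * x, hmod _ _ _ (hfix y hy), mul_right_comm, hψ, _root_.mul_comm]
    have h1 := hg F fun x y hy => hF x y hy
    simp only [F, map_mul, ev_det_transMat, _root_.mul_one] at h1
    rw [hblock y₀ q] at h1
    have h2 := hψ 1 y₀
    rw [_root_.one_mul] at h2
    rw [mul_right_comm, h2, _root_.mul_comm] at h1
    exact mul_right_cancel₀ hψ1 h1
  let v := R (y₀ ≫ j) fh - fh
  have hv : v ∈ W' := by
    by_contra hv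
    have hli : LinearIndependent k (Sum.elim (fun _ : PUnit.{u+1} => v) w) := by
      refine linearIndependent_sum.2 ⟨?_, hwli, ?_⟩
      · exact (LinearIndependent.of_subsingleton PUnit.unit fun h0 => hv (by rw [show v = 0 from h0]; exact W'.zero_mem))
      · simp only [Sum.elim_comp_inl, Sum.elim_comp_inr, Set.range_const]
        rw [disjoint_comm, Submodule.disjoint_span_singleton' (fun h0 => hv (by rw [show v = 0 from h0]; exact W'.zero_mem))]
        intro h
        exact hv ((Submodule.span_le.2 (by rintro _ ⟨c, rfl⟩; exact (b c).2)) h)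
    obtain ⟨q, hq⟩ := exists_points_det_ne_zero _ hli
    apply hq
    have h1 : ∀ z : Fn G, valMat q (Sum.elim (fun _ => z) w) =
        (valMat q u).updateCol (Sum.inl PUnit.unit) (fun a => ev (q a) z) := fun z => by
      ext a d
      rcases d with d | d <;> simp [valMat, u]
    rw [h1, show (fun a => ev (q a) v) = (fun a => ev (q a) (R (y₀ ≫ j) fh)) +
      (-1 : k) • (fun a => ev (q a) fh) from funext fun a => by simp [v, sub_eq_add_neg],
      Matrix.det_updateCol_add, Matrix.det_updateCol_smul, ← h1, ← h1, hkey]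
    simp [u]
  have h := hv.2
  change pull j (R (y₀ ≫ j) fh - fh) = 0 at h
  rwa [map_sub, pull_R, sub_eq_zero] at h

end Groth.Agent.H19Obs
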