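import Groth.Agent.H19Obs.Trans
import Groth.Agent.H19Grp.PointsEqClosed
import Groth.Agent.S11195
import Mathlib

/-!
# Observability and open subgroups
-/

set_option autoImplicit false
set_option maxHeartbeats 1000000
set_option synthInstance.maxHeartbeats 200000
set_option linter.style.haveILetI false
set_option backward.isDefEq.respectTransparency false

universe u

open CategoryTheory CategoryTheory.Limits MonoidalCategory CartesianMonoidalCategory MonObj AlgebraicGeometry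
open Groth.Agent.H27Witt Groth.Agent.H27Witt.Fn

noncomputable section

namespace Groth.Agent.H19Obs

attribute [local instance 2000] Hom.group Hom.monoid

variable {k : Type u} [Field k] [IsAlgClosed k]

/-- The image of a rational point. -/
def img {X : Over (Sk k)} (y : T0 k ⟶ X) : X.left := y.left (IsLocalRing.closedPoint k)

omit [IsAlgClosed k] in
theorem img_comp {X Y : Over (Sk k)} (y : T0 k ⟶ X) (f : X ⟶ Y) : img (y ≫ f) = f.left (img y) := by
  rw [img, img, Over.comp_left, Scheme.Hom.comp_apply]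

omit [IsAlgClosed k] in
theorem exists_lift_of_mem {X Y : Over (Sk k)} (j : X ⟶ Y) [IsOpenImmersion j.left] {y : T0 k ⟶ Y}
    (h : img y ∈ Set.range j.left) : ∃ z : T0 k ⟶ X, z ≫ j = y := by
  have hr : Set.range y.left ⊆ Set.range j.left := by
    rintro _ ⟨p, rfl⟩
    rw [show p = IsLocalRing.closedPoint k from Subsingleton.elim (α := PrimeSpectrum k) _ _]
    exact h
  let l := IsOpenImmersion.lift j.left y.left hr
  have hl : l ≫ j.left = y.left := IsOpenImmersion.lift_fac _ _ _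
  refine ⟨Over.homMk l ?_, Over.OverMorphism.ext hl⟩
  rw [← Over.w j, ← Category.assoc, hl, Over.w y]

theorem exists_img {X : Over (Sk k)} [LocallyOfFiniteType X.hom] {x : X.left} (hx : IsClosed {x}) :
    ∃ y : T0 k ⟶ X, img y = x := by
  obtain ⟨w, hw⟩ := H19Grp.PointsDense.exists_point_closed (K := k) (W := X) hx
  exact ⟨e0 ≫ w, by rw [img, Over.comp_left, Scheme.Hom.comp_apply]; exact hw _⟩

omit [IsAlgClosed k] in
theorem img_mem_basicOpen {X : Over (Sk k)} (y : T0 k ⟶ X) (f : Fn X) :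
    img y ∈ X.left.basicOpen f ↔ ev y f ≠ 0 := by
  have h1 : img y ∈ X.left.basicOpen f ↔ IsLocalRing.closedPoint k ∈ y.left ⁻¹ᵁ X.left.basicOpen f := Iff.rfl
  rw [h1, Scheme.preimage_basicOpen]
  constructor
  · intro h h0
    have h2 : y.left.app ⊤ f = 0 := by
      have := congrArg (struct (T0 k)) h0
      rw [map_zero] at this
      exact ((struct_gamma _).symm.trans this)
    rw [h2, Scheme.basicOpen_zero] at h
    exact h
  · intro h
    have h2 : IsUnit (y.left.app ⊤ f) := by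
      have := (isUnit_iff_ne_zero.2 h).map (struct (T0 k))
      rwa [show struct (T0 k) (ev y f) = y.left.app ⊤ f from struct_gamma _] at this
    rw [Scheme.basicOpen_of_isUnit _ h2]
    trivial

variable {H H₀ : Over (Sk k)} [GrpObj H] [IsAffine H.left] [Smooth H.hom] [GrpObj H₀]
  (j : H₀ ⟶ H) [IsMonHom j] [IsOpenImmersion j.left]

omit [IsAffine H.left] in
theorem isClosed_range : IsClosed (Set.range j.left) := by
  haveI : LocallyOfFiniteType H.hom := inferInstance
  haveI := LocallyOfFiniteType.jacobsonSpace H.hom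
  let U : H.left.Opens := j.left.opensRange
  rw [← isOpen_compl_iff, isOpen_iff_forall_mem_open]
  intro w hw
  obtain ⟨z, hz, hzc⟩ := nonempty_inter_closedPoints (Z := closure {w}) ⟨w, subset_closure rfl⟩
    isClosed_closure.isLocallyClosed
  obtain ⟨y, hy⟩ := exists_img (k := k) hzc
  have hyU : img y ∉ (U : Set H.left) := fun h => hw ((specializes_iff_mem_closure.2 (hy ▸ hz)).mem_open U.2 h)
  let l : H ⟶ H := (toT0 H ≫ y⁻¹) * 𝟙 H
  have hl : ∀ t : T0 k ⟶ H, t ≫ l = y⁻¹ * t := fun t => by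
    rw [MonObj.comp_mul, Category.comp_id, ← Category.assoc, comp_toT0, Category.id_comp]
  refine ⟨l.left ⁻¹' (U : Set H.left), fun t ht htU => ?_, U.2.preimage l.left.continuous, ?_⟩
  · obtain ⟨t', ⟨htl, htU'⟩, htc⟩ := nonempty_inter_closedPoints
      (Z := l.left ⁻¹' (U : Set H.left) ∩ (U : Set H.left)) ⟨t, ht, htU⟩
      ((U.2.preimage l.left.continuous).inter U.2).isLocallyClosed
    obtain ⟨p, rfl⟩ := exists_img (k := k) htc
    obtain ⟨a, ha⟩ := exists_lift_of_mem j (show img (p ≫ l) ∈ Set.range j.left by rw [img_comp]; exact htl)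
    obtain ⟨b, hb⟩ := exists_lift_of_mem j htU'
    apply hyU
    have h1 : y = (b * a⁻¹) ≫ j := by
      rw [MonObj.mul_comp, GrpObj.inv_comp, hb, ha, hl, mul_inv_rev, inv_inv, mul_inv_cancel_left]
    rw [h1, img_comp]
    exact ⟨_, rfl⟩
  · refine (specializes_iff_mem_closure.2 (hy ▸ hz)).mem_open (U.2.preimage l.left.continuous) ?_
    show l.left (img y) ∈ (U : Set H.left)
    rw [← img_comp, hl, inv_mul_cancel, ← MonObj.one_comp j, img_comp]
    exact ⟨_, rfl⟩

/-- The indicator function of an open subgroup. -/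
theorem exists_indicator : ∃ e : Fn H, ∀ y : T0 k ⟶ H,
    ((∃ z, z ≫ j = y) → ev y e = 1) ∧ ((¬∃ z, z ≫ j = y) → ev y e = 0) := by
  classical
  have hcl : IsClopen (H.left.isoSpec.inv ⁻¹' Set.range j.left) :=
    ⟨(isClosed_range j).preimage H.left.isoSpec.inv.continuous, j.left.opensRange.2.preimage H.left.isoSpec.inv.continuous⟩
  obtain ⟨e, he, heq⟩ := PrimeSpectrum.exists_idempotent_basicOpen_eq_of_isClopen hcl
  have h2 : H.left.isoSpec.inv ⁻¹ᵁ H.left.basicOpen e = PrimeSpectrum.basicOpen e := by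
    rw [← IsAffineOpen.fromSpec_preimage_basicOpen (isAffineOpen_top H.left), IsAffineOpen.fromSpec_top]
  have hmem : ∀ y : T0 k ⟶ H, img y ∈ Set.range j.left ↔ ev y (e : Fn H) ≠ 0 := by
    intro y
    rw [← img_mem_basicOpen]
    obtain ⟨p, hp⟩ : ∃ p, H.left.isoSpec.inv p = img y :=
      ⟨H.left.isoSpec.hom (img y), by rw [← Scheme.Hom.comp_apply, Iso.hom_inv_id]; rfl⟩
    rw [← hp]
    have h3 : p ∈ H.left.isoSpec.inv ⁻¹' Set.range j.left ↔ p ∈ PrimeSpectrum.basicOpen e := by rw [heq]; rfl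
    refine h3.trans ?_
    rw [← h2]
    rfl
  refine ⟨e, fun y => ⟨fun ⟨z, hz⟩ => ?_, fun h => ?_⟩⟩
  · have h0 : ev y (e : Fn H) ≠ 0 := (hmem y).1 (by rw [← hz, img_comp]; exact ⟨_, rfl⟩)
    have h1 : ev y (e : Fn H) * ev y (e : Fn H) = ev y (e : Fn H) := by
      rw [← map_mul]
      exact congrArg _ he.eq
    exact (mul_eq_left₀ h0).1 h1
  · by_contra h0
    exact h (exists_lift_of_mem j ((hmem y).2 h0))

variable {G : Over (Sk k)} [GrpObj G] [IsAffine G.left] [Smooth G.hom]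

/-- An open subgroup is observable. -/
theorem isObservableIn_open [IsAffine H₀.left] [Smooth H₀.hom] : AGF.IsObservableIn k j := by
  intro g hg
  obtain ⟨e, he⟩ := exists_indicator j
  have hinv : AGF.IsRTransInv j e := by
    refine (isRTransInv_iff j e).2 fun x y => ?_
    by_cases h : ∃ z, z ≫ j = x
    · rw [(he x).1 h, (he _).1]
      obtain ⟨z, rfl⟩ := h
      exact ⟨z * y, MonObj.mul_comp _ _ _⟩
    · rw [(he x).2 h, (he _).2]
      rintro ⟨z, hz⟩
      exact h ⟨z * y⁻¹, by rw [MonObj.mul_comp, GrpObj.inv_comp, hz, mul_inv_cancel_right]⟩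
  have h1 := (isRTransInv_pt_iff g e).1 (hg e hinv) 1
  rw [_root_.one_mul, (he 1).1 ⟨1, MonObj.one_comp _⟩] at h1
  refine (exists_lift j g).2 ?_
  by_contra hno
  rw [(he _).2 hno] at h1
  exact zero_ne_one h1

/-- An open subgroup has finitely many cosets. -/
theorem exists_finite_cosets [IsAffine H₀.left] :
    ∃ t : Finset (T0 k ⟶ H), ∀ y : T0 k ⟶ H, ∃ a ∈ t, ∃ z, z ≫ j = a⁻¹ * y := by
  classical
  obtain ⟨e, he⟩ := exists_indicator j
  obtain ⟨V, hfin, heV, hV⟩ := exists_stable_finset (G := H) {e}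
  by_contra! hno
  have hseq : ∃ f : ℕ → (T0 k ⟶ H), ∀ m n, m < n → ∀ z, z ≫ j ≠ (f m)⁻¹ * f n := by
    choose pick hpick using hno
    let F : ℕ → Finset (T0 k ⟶ H) := fun n => Nat.rec ∅ (fun _ t => insert (pick t) t) n
    refine ⟨fun n => pick (F n), fun m n hmn => hpick (F n) _ ?_⟩
    induction n with
    | zero => omega
    | succ n ih =>
      rcases Nat.lt_succ_iff_lt_or_eq.1 hmn with h | h
      · exact Finset.mem_insert_of_mem (ih h)
      · subst h; exact Finset.mem_insert_self _ _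
  obtain ⟨f, hf⟩ := hseq
  let v : ℕ → V := fun n => ⟨R (f n) e, hV _ _ (heV e (Finset.mem_singleton_self e))⟩
  have hli : LinearIndependent k v := by
    refine linearIndependent_iff'.2 fun s g hg i hi => ?_
    have h1 := congrArg (fun w : V => ev (f i)⁻¹ (w : Fn H)) hg
    simp only [v, Submodule.coe_sum, Submodule.coe_smul, map_sum, map_smul, ev_R, smul_eq_mul,
      Submodule.coe_zero, map_zero] at h1
    rw [Finset.sum_eq_single i (fun m _ hm => ?_) (fun h => absurd hi h)] at h1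
    · rwa [inv_mul_cancel, (he 1).1 ⟨1, MonObj.one_comp _⟩, _root_.mul_one] at h1
    · rw [(he _).2, mul_zero]
      rintro ⟨z, hz⟩
      rcases Nat.lt_or_gt_of_ne hm with h | h
      · exact hf m i h z⁻¹ (by rw [GrpObj.inv_comp, hz, mul_inv_rev, inv_inv])
      · exact hf i m h z hz
  haveI : Finite ℕ := hli.finite
  exact not_finite ℕ

/-- A subgroup with an observable open subgroup is observable. -/
theorem isObservableIn_of_open [IsAffine H₀.left] [Smooth H₀.hom] (i : H ⟶ G) [IsMonHom i]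
    (hobs : AGF.IsObservableIn k (j ≫ i)) : AGF.IsObservableIn k i := by
  classical
  let U : Subgroup (T0 k ⟶ H) :=
    (MonoidHom.mk' (fun z : T0 k ⟶ H₀ => z ≫ j) fun a b => MonObj.mul_comp a b j).range
  let Q := (T0 k ⟶ H) ⧸ U
  obtain ⟨t, ht⟩ := exists_finite_cosets j
  haveI : Finite Q := Finite.of_surjective (fun a : t => ((a.1 : T0 k ⟶ H) : Q)) fun q => by
    obtain ⟨y, rfl⟩ := QuotientGroup.mk_surjective q
    obtain ⟨a, ha, z, hz⟩ := ht y
    exact ⟨⟨a, ha⟩, QuotientGroup.eq.2 ⟨z, hz⟩⟩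
  letI := Fintype.ofFinite Q
  intro g hg
  refine (exists_lift i g).2 ?_
  by_contra hno
  have hsep : ∀ a b : Q, ∃ p : Fn G, AGF.IsRTransInv (j ≫ i) p ∧
      ev ((e0 ≫ g) * (a.out ≫ i)) p = 1 ∧ ev (b.out ≫ i) p = 0 := by
    intro a b
    by_cases h : ∀ f : Fn G, AGF.IsRTransInv (j ≫ i) f → ev (b.out ≫ i) f = ev ((e0 ≫ g) * (a.out ≫ i)) f
    · exfalso
      obtain ⟨z, hz⟩ := hobs _ (hull_of_sep (j ≫ i) h)
      apply hno
      refine ⟨b.out * ((e0 ≫ z) ≫ j) * a.out⁻¹, ?_⟩
      have h1 : ((e0 ≫ z) ≫ j) ≫ i = (b.out ≫ i)⁻¹ * ((e0 ≫ g) * (a.out ≫ i)) := by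
        rw [Category.assoc, Category.assoc, hz, ← Category.assoc, e0_e1, Category.id_comp]
      rw [MonObj.mul_comp, MonObj.mul_comp, GrpObj.inv_comp, h1, mul_inv_cancel_left, mul_inv_cancel_right]
    · push Not at h
      obtain ⟨f, hf, hne⟩ := h
      let c := ev (b.out ≫ i) f
      let d := ev ((e0 ≫ g) * (a.out ≫ i)) f
      refine ⟨(d - c)⁻¹ • (f - algebraMap k (Fn G) c), ?_, ?_, ?_⟩
      · refine (isRTransInv_iff (j ≫ i) _).2 fun x y => ?_
        simp only [map_smul, map_sub, AlgHom.commutes]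
        rw [(isRTransInv_iff (j ≫ i) f).1 hf x y]
      · simp only [map_smul, map_sub, AlgHom.commutes, smul_eq_mul]
        exact inv_mul_cancel₀ (sub_ne_zero.2 (Ne.symm hne))
      · simp [c]
  choose p hp hp1 hp0 using hsep
  let f : Fn G := 1 - ∏ a : Q, (1 - ∏ b : Q, p a b)
  have hfinv : ∀ (x : T0 k ⟶ G) (z : T0 k ⟶ H₀), ev (x * (z ≫ j ≫ i)) f = ev x f := fun x z => by
    simp only [f, map_sub, map_one, map_prod]
    congr 1
    refine Finset.prod_congr rfl fun a _ => ?_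
    congr 1
    exact Finset.prod_congr rfl fun b _ => (isRTransInv_iff (j ≫ i) _).1 (hp a b) x z
  let Φ : (T0 k ⟶ G) → Q → k := fun x => Quotient.lift (fun y : T0 k ⟶ H => ev (x * (y ≫ i)) f) (by
    intro y y' h
    obtain ⟨z, hz⟩ := QuotientGroup.leftRel_apply.1 h
    have h' : y' = y * (z ≫ j) := by rw [show z ≫ j = y⁻¹ * y' from hz, mul_inv_cancel_left]
    show _ = ev (x * (y' ≫ i)) f
    rw [h', MonObj.mul_comp, ← _root_.mul_assoc, Category.assoc, hfinv])
  have hΦ : ∀ x (q : Q), ev (x * (q.out ≫ i)) f = Φ x q := fun x q => by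
    conv_rhs => rw [← Quotient.out_eq q]
    rfl
  let F : Fn G := ∏ q : Q, R (q.out ≫ i) f
  have hF : ∀ x, ev x F = ∏ q : Q, Φ x q := fun x => by
    simp only [F, map_prod, ev_R, hΦ]
  have hinv : AGF.IsRTransInv i F := by
    refine (isRTransInv_iff i F).2 fun x y => ?_
    rw [hF, hF]
    refine Fintype.prod_equiv (MulAction.toPerm y) _ _ fun q => ?_
    induction q using QuotientGroup.induction_on with
    | H w =>
      show ev (x * (y ≫ i) * (w ≫ i)) f = ev (x * ((y * w) ≫ i)) f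
      rw [MonObj.mul_comp, _root_.mul_assoc]
  have h1 := (isRTransInv_pt_iff g F).1 (hg F hinv) 1
  rw [_root_.one_mul, hF, hF] at h1
  have hone : ∏ q : Q, Φ (e0 ≫ g) q = 1 := by
    refine Finset.prod_eq_one fun q _ => ?_
    rw [← hΦ]
    simp only [f, map_sub, map_one, map_prod]
    rw [Finset.prod_eq_zero (Finset.mem_univ q) (by rw [Finset.prod_eq_one fun b _ => hp1 q b, sub_self]), sub_zero]
  have hzero : ∏ q : Q, Φ 1 q = 0 := by
    refine Finset.prod_eq_zero (Finset.mem_univ ((1 : T0 k ⟶ H) : Q)) ?_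
    rw [← hΦ, _root_.one_mul]
    simp only [f, map_sub, map_one, map_prod]
    rw [Finset.prod_eq_one fun a _ => ?_, sub_self]
    rw [Finset.prod_eq_zero (Finset.mem_univ ((1 : T0 k ⟶ H) : Q)) (hp0 a _), sub_zero]
  rw [hone, hzero] at h1
  exact one_ne_zero h1

omit [Smooth H.hom] [IsAffine G.left] [Smooth G.hom] in
/-- Observability passes to a smaller group containing the subgroup. -/
theorem isObservableIn_restrict {G₀ K : Over (Sk k)} [GrpObj G₀] [IsAffine G₀.left] [Smooth G₀.hom] [GrpObj K]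
    [IsAffine K.left] [Smooth K.hom] (m : G₀ ⟶ G) [IsMonHom m] (i₀ : K ⟶ G₀) [IsMonHom i₀]
    (hm : ∀ x y : T0 k ⟶ G₀, x ≫ m = y ≫ m → x = y) (P : Set (T0 k ⟶ G))
    (hP : ∀ y : T0 k ⟶ K, y ≫ i₀ ≫ m ∈ P)
    (hobs : ∀ x : T0 k ⟶ G₀, (∀ F : Fn G, (∀ (z : T0 k ⟶ G), ∀ y ∈ P, ev (z * y) F = ev z F) →
        ev (x ≫ m) F = ev 1 F) → ∃ y : T0 k ⟶ K, y ≫ i₀ ≫ m = x ≫ m) :
    AGF.IsObservableIn k i₀ := by
  intro g hg
  obtain ⟨y, hy⟩ := hobs (e0 ≫ g) fun F hF => by
    have h0 : AGF.IsRTransInv i₀ (pull m F) := (isRTransInv_iff i₀ _).2 fun x y => by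
      rw [ev_pull, ev_pull, MonObj.mul_comp, Category.assoc]
      exact hF _ _ (hP y)
    have h1 := (isRTransInv_pt_iff g _).1 (hg _ h0) 1
    rwa [_root_.one_mul, ev_pull, ev_pull, MonObj.one_comp] at h1
  exact (exists_lift i₀ g).2 ⟨y, hm _ _ (by rw [Category.assoc, hy])⟩

end Groth.Agent.H19Obs
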