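import Groth.Agent.H19Obs.Basic
import Mathlib

/-!
# The right regular representation of a subgroup on the functions of a group
-/

set_option autoImplicit false
set_option maxHeartbeats 1000000
set_option synthInstance.maxHeartbeats 200000
set_option linter.style.haveILetI false
set_option backward.isDefEq.respectTransparency false

universe u

open CategoryTheory CategoryTheory.Limits MonoidalCategory CartesianMonoidalCategory MonObj AlgebraicGeometry
open scoped TensorProduct
open Groth.Agent.H27Witt Groth.Agent.H27Witt.Fn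

noncomputable section

namespace Groth.Agent.H19Obs

attribute [local instance 2000] Hom.group Hom.monoid

variable {k : Type u} [Field k]

section Product

variable (X Y : Over (Sk k)) [IsAffine X.left] [IsAffine Y.left]

omit [IsAffine X.left] [IsAffine Y.left] in
/-- Products of functions on the factors, the second factor first. -/
def mulMap : Fn Y ⊗[k] Fn X →ₐ[k] Fn (X ⊗ Y) :=
  Algebra.TensorProduct.lift (pull (snd X Y)) (pull (fst X Y)) fun _ _ => Commute.all _ _

theorem mulMap_bijective : Function.Bijective (mulMap X Y) := by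
  let Z : Over (Sk k) := Over.mk (Spec.map (CommRingCat.ofHom (algebraMap k (Fn Y ⊗[k] Fn X))))
  let e := specAlg (k := k) (Fn Y ⊗[k] Fn X)
  obtain ⟨q, hq⟩ := exists_hom (X := Z) (e.toAlgHom.comp Algebra.TensorProduct.includeLeft)
  obtain ⟨p, hp⟩ := exists_hom (X := Z) (e.toAlgHom.comp Algebra.TensorProduct.includeRight)
  refine ⟨?_, fun f => ?_⟩
  · let ψ : Fn (X ⊗ Y) →ₐ[k] Fn Y ⊗[k] Fn X := e.symm.toAlgHom.comp (pull (lift p q))
    have h : ψ.comp (mulMap X Y) = AlgHom.id k _ := by
      refine Algebra.TensorProduct.ext (AlgHom.ext fun b => ?_) (AlgHom.ext fun a => ?_)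
      · change e.symm (pull (lift p q) (mulMap X Y (b ⊗ₜ 1))) = b ⊗ₜ 1
        rw [mulMap, Algebra.TensorProduct.lift_tmul, map_one, _root_.mul_one, pull_pull, lift_snd, hq]
        exact e.symm_apply_apply _
      · change e.symm (pull (lift p q) (mulMap X Y (1 ⊗ₜ a))) = 1 ⊗ₜ a
        rw [mulMap, Algebra.TensorProduct.lift_tmul, map_one, _root_.one_mul, pull_pull, lift_fst, hp]
        exact e.symm_apply_apply _
    exact Function.LeftInverse.injective (g := ψ) fun z => AlgHom.congr_fun h z
  · obtain ⟨n, a, b, h⟩ := exists_decomp f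
    refine ⟨∑ j, b j ⊗ₜ a j, ?_⟩
    rw [h, map_sum]
    refine Finset.sum_congr rfl fun j _ => ?_
    rw [mulMap, Algebra.TensorProduct.lift_tmul, _root_.mul_comm]

/-- Functions on a product. -/
def prodEquiv : Fn Y ⊗[k] Fn X ≃ₐ[k] Fn (X ⊗ Y) := AlgEquiv.ofBijective _ (mulMap_bijective X Y)

end Product

variable {G H : Over (Sk k)} [GrpObj G] [IsAffine G.left] [GrpObj H] [IsAffine H.left] (i : H ⟶ G) [IsMonHom i]

/-- The coaction of the right regular representation. -/
def coact : Fn G →ₐ[k] Fn H ⊗[k] Fn G :=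
  (prodEquiv G H).symm.toAlgHom.comp (pull ((G ◁ i) ≫ μ[G]))

variable (B : Type u) [CommRing B] [Algebra k B]

omit [GrpObj G] [IsAffine G.left] in
/-- The algebra map of a point. -/
def ptAlg (g : VecGrp.pt k B ⟶ G) : Fn G →ₐ[k] B := (specAlg B).symm.toAlgHom.comp (pull g)

omit [GrpObj G] [IsAffine G.left] in
/-- Evaluation of extended functions at a point. -/
def evB (Q : VecGrp.pt k B ⟶ G) : B ⊗[k] Fn G →ₐ[B] B :=
  Algebra.TensorProduct.lift (AlgHom.id B B) (ptAlg B Q) fun _ _ => Commute.all _ _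

omit [GrpObj G] [IsAffine G.left] in
theorem evB_tmul (Q : VecGrp.pt k B ⟶ G) (b : B) (f : Fn G) : evB B Q (b ⊗ₜ f) = b * ptAlg B Q f := by
  rw [evB, Algebra.TensorProduct.lift_tmul, AlgHom.id_apply]

/-- The action of a point by right translation. -/
def act (g : VecGrp.pt k B ⟶ H) : B ⊗[k] Fn G →ₐ[B] B ⊗[k] Fn G :=
  Algebra.TensorProduct.lift (Algebra.ofId B _)
    ((Algebra.TensorProduct.map (ptAlg B g) (AlgHom.id k (Fn G))).comp (coact i)) fun _ _ => Commute.all _ _

omit [IsMonHom i] in
theorem act_tmul (g : VecGrp.pt k B ⟶ H) (f : Fn G) :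
    act i B g (1 ⊗ₜ f) = Algebra.TensorProduct.map (ptAlg B g) (AlgHom.id k (Fn G)) (coact i f) := by
  rw [act, Algebra.TensorProduct.lift_tmul, map_one, _root_.one_mul]
  rfl

omit [IsMonHom i] in
theorem evB_act (Q : VecGrp.pt k B ⟶ G) (g : VecGrp.pt k B ⟶ H) (z : B ⊗[k] Fn G) :
    evB B Q (act i B g z) = evB B (Q * (g ≫ i)) z := by
  have key : ∀ w : Fn H ⊗[k] Fn G,
      evB B Q (Algebra.TensorProduct.map (ptAlg B g) (AlgHom.id k (Fn G)) w) =
        (specAlg B).symm (pull (lift Q g) (mulMap G H w)) := by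
    intro w
    induction w using TensorProduct.induction_on with
    | zero => simp
    | add x y hx hy => simp only [map_add, hx, hy]
    | tmul b a =>
      rw [Algebra.TensorProduct.map_tmul, evB_tmul, mulMap, Algebra.TensorProduct.lift_tmul, map_mul, map_mul,
        pull_pull, pull_pull, lift_fst, lift_snd]
      rfl
  induction z using TensorProduct.induction_on with
  | zero => simp
  | add x y hx hy => simp only [map_add, hx, hy]
  | tmul b f =>
    rw [show b ⊗ₜ[k] f = b • ((1 : B) ⊗ₜ[k] f) by rw [TensorProduct.smul_tmul', smul_eq_mul, _root_.mul_one],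
      map_smul, map_smul, map_smul, act_tmul, key, evB_tmul, _root_.one_mul]
    congr 1
    change (specAlg B).symm (pull (lift Q g) (mulMap G H ((prodEquiv G H).symm (pull ((G ◁ i) ≫ μ[G]) f)))) = _
    rw [show mulMap G H ((prodEquiv G H).symm (pull ((G ◁ i) ≫ μ[G]) f)) = pull ((G ◁ i) ≫ μ[G]) f from
      (prodEquiv G H).apply_symm_apply _, pull_pull, ← Category.assoc, lift_whiskerLeft, ← Hom.mul_def]
    rfl

variable [IsAlgClosed k] [Smooth G.hom]

omit [GrpObj G] in
/-- Extended functions are separated by rational points. -/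
theorem eq_of_evB (z z' : B ⊗[k] Fn G)
    (h : ∀ x : T0 k ⟶ G, evB B (toT0 _ ≫ x) z = evB B (toT0 _ ≫ x) z') : z = z' := by
  classical
  let b := Module.Basis.ofVectorSpace k B
  have hpt : ∀ (x : T0 k ⟶ G) (f : Fn G), ptAlg B (toT0 _ ≫ x) f = algebraMap k B (ev x f) := fun x f => by
    change (specAlg B).symm (pull (toT0 _ ≫ x) f) = _
    rw [← pull_pull, show pull x f = algebraMap k (Fn (T0 k)) (ev x f) from (struct_gamma _).symm,
      AlgHom.commutes, AlgEquiv.commutes]
  rw [← sub_eq_zero]
  refine (TensorProduct.equivFinsuppOfBasisLeft b).injective (Finsupp.ext fun a => ?_)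
  rw [map_zero]
  refine ext_points fun x => ?_
  have h0 : evB B (toT0 _ ≫ x) (z - z') = 0 := by rw [map_sub, h, sub_self]
  have hc : ∀ w : B ⊗[k] Fn G,
      b.repr (evB B (toT0 _ ≫ x) w) a = ev x ((TensorProduct.equivFinsuppOfBasisLeft b w) a) := by
    intro w
    induction w using TensorProduct.induction_on with
    | zero => simp
    | add x y hx hy => simp only [map_add, Finsupp.add_apply, hx, hy]
    | tmul c f =>
      rw [evB_tmul, hpt, _root_.mul_comm, ← Algebra.smul_def, map_smul,
        TensorProduct.equivFinsuppOfBasisLeft_apply_tmul_apply, map_smul]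
      simp [_root_.mul_comm]
  rw [← hc, h0]
  simp

theorem act_one : act i B (1 : VecGrp.pt k B ⟶ H) = AlgHom.id B _ :=
  AlgHom.ext fun z => eq_of_evB B _ _ fun x => by
    rw [evB_act, MonObj.one_comp, _root_.mul_one]
    rfl

theorem act_mul (g g' : VecGrp.pt k B ⟶ H) : act i B (g * g') = (act i B g).comp (act i B g') :=
  AlgHom.ext fun z => eq_of_evB B _ _ fun x => by
    rw [AlgHom.comp_apply, evB_act, evB_act, evB_act, MonObj.mul_comp, _root_.mul_assoc]

omit [GrpObj G] [IsAffine G.left] [IsAlgClosed k] [Smooth G.hom] in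
theorem evB_natural {B' : Type u} [CommRing B'] [Algebra k B'] (φ : B →ₐ[k] B') (Q : VecGrp.pt k B ⟶ G)
    (z : B ⊗[k] Fn G) : evB B' (VecGrp.ptMap φ ≫ Q) (VecGrp.Wmap φ z) = φ (evB B Q z) := by
  induction z using TensorProduct.induction_on with
  | zero => simp
  | add x y hx hy => simp only [map_add, hx, hy]
  | tmul b f =>
    rw [VecGrp.Wmap_tmul, evB_tmul, evB_tmul, map_mul]
    congr 1
    obtain ⟨w, hw⟩ := (specAlg B).surjective (pull Q f)
    change (specAlg B').symm (pull (VecGrp.ptMap φ ≫ Q) f) = φ ((specAlg B).symm (pull Q f))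
    rw [← pull_pull, ← hw, AlgEquiv.symm_apply_apply]
    apply (specAlg (k := k) B').injective
    rw [AlgEquiv.apply_symm_apply]
    exact (congrArg (fun f => f w) (Scheme.ΓSpecIso_inv_naturality (CommRingCat.ofHom φ.toRingHom))).symm

/-- The action as a group of linear automorphisms. -/
def actHom : (VecGrp.pt k B ⟶ H) →* (VecGrp.W k (Fn G) B ≃ₗ[B] VecGrp.W k (Fn G) B) :=
  (LinearMap.GeneralLinearGroup.generalLinearEquiv B (VecGrp.W k (Fn G) B)).toMonoidHom.comp
    ({ toFun := fun g => ((act i B g).toLinearMap : Module.End B (VecGrp.W k (Fn G) B))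
       map_one' := by rw [act_one]; rfl
       map_mul' := fun g g' => by rw [act_mul]; rfl } : (VecGrp.pt k B ⟶ H) →* _).toHomUnits

variable {B}

/-- The right regular representation of a subgroup. -/
def rightReg : VecGrp.GMod H (Fn G) where
  ρ B _ _ := actHom i B
  naturality {B B'} _ _ _ _ φ g z := by
    change VecGrp.Wmap φ (act i B g z) = act i B' (VecGrp.ptMap φ ≫ g) (VecGrp.Wmap φ z)
    refine eq_of_evB B' _ _ fun x => ?_
    rw [evB_act, show toT0 (VecGrp.pt k B') ≫ x = VecGrp.ptMap φ ≫ (toT0 (VecGrp.pt k B) ≫ x) by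
      rw [← Category.assoc]; congr 1; exact (Over.OverMorphism.ext (by exact (Over.w (VecGrp.ptMap φ)).symm)),
      evB_natural, evB_act, Category.assoc, ← MonObj.comp_mul, evB_natural]

theorem rightReg_apply (g : VecGrp.pt k B ⟶ H) (z : VecGrp.W k (Fn G) B) : (rightReg i).ρ B g z = act i B g z := rfl

theorem rightReg_isMult : (rightReg i).IsMult := fun B _ _ g =>
  ⟨fun x y => map_mul (act i B g) x y, map_one (act i B g)⟩

/-- The action of a rational point. -/
theorem rightReg_point (y : T0 k ⟶ H) (f : Fn G) :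
    (rightReg i).ρ k (e1 ≫ y) ((1 : k) ⊗ₜ[k] f) = (1 : k) ⊗ₜ[k] R (y ≫ i) f := by
  refine eq_of_evB k _ _ fun x => ?_
  rw [rightReg_apply, evB_act, evB_tmul, evB_tmul, _root_.one_mul, _root_.one_mul]
  change (specAlg k).symm (pull ((toT0 (VecGrp.pt k k) ≫ x) * ((e1 ≫ y) ≫ i) : VecGrp.pt k k ⟶ G) f) =
    (specAlg k).symm (pull (toT0 (VecGrp.pt k k) ≫ x : VecGrp.pt k k ⟶ G) (R (y ≫ i) f))
  rw [specAlg_symm_pull, specAlg_symm_pull, MonObj.comp_mul, ← Category.assoc e0 (toT0 (VecGrp.pt k k)),
    ← Category.assoc, ← Category.assoc e0 e1, e0_e1, Category.id_comp, comp_toT0, Category.id_comp, ev_R]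

variable [Smooth H.hom]

/-- The invariants of the right regular representation. -/
theorem mem_fixedUnder_rightReg (f : Fn G) :
    f ∈ (rightReg i).fixedUnder (𝟙 H) ↔ ∀ (x : T0 k ⟶ G) (y : T0 k ⟶ H), ev (x * (y ≫ i)) f = ev x f := by
  constructor
  · intro hf x y
    have h := hf k (e1 ≫ y)
    rw [Category.comp_id, rightReg_point] at h
    have h' := congrArg (fun z => ev x (TensorProduct.lid k (Fn G) z)) h
    simpa [ev_R] using h'
  · intro hf B _ _ g
    rw [Category.comp_id, rightReg_apply]
    refine eq_of_evB B _ _ fun x => ?_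
    rw [evB_act, evB_tmul, evB_tmul]
    congr 1
    have hF : pull ((toT0 H ≫ x) * i) f = algebraMap k (Fn H) (ev x f) := ext_points fun y => by
      rw [ev_pull, MonObj.comp_mul, ← Category.assoc, comp_toT0, Category.id_comp, AlgHom.commutes, hf]
      rfl
    change (specAlg B).symm (pull ((toT0 (VecGrp.pt k B) ≫ x) * (g ≫ i) : VecGrp.pt k B ⟶ G) f) =
      (specAlg B).symm (pull (toT0 (VecGrp.pt k B) ≫ x : VecGrp.pt k B ⟶ G) f)
    rw [show (toT0 (VecGrp.pt k B) ≫ x) * (g ≫ i) = g ≫ ((toT0 H ≫ x) * i) by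
      rw [MonObj.comp_mul, ← Category.assoc]; congr 2; exact (Over.OverMorphism.ext (Over.w g).symm),
      ← pull_pull, hF, AlgHom.commutes, ← pull_pull, show pull x f = algebraMap k (Fn (T0 k)) (ev x f) from
        (struct_gamma _).symm, AlgHom.commutes]

/-- Subspaces stable under rational points are stable. -/
theorem isStable_rightReg (V : Submodule k (Fn G)) (hV : ∀ (y : T0 k ⟶ H), ∀ f ∈ V, R (y ≫ i) f ∈ V) :
    (rightReg i).IsStable (𝟙 H) V := by
  classical
  intro B _ _ g f hf
  rw [Category.comp_id, rightReg_apply, act_tmul]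
  have h0 : (LinearMap.lTensor (Fn H) V.mkQ) (coact i f) = 0 := by
    let b := Module.Basis.ofVectorSpace k (Fn G ⧸ V)
    refine (TensorProduct.equivFinsuppOfBasisRight b).injective (Finsupp.ext fun a => ?_)
    rw [map_zero]
    refine ext_points fun y => ?_
    have hc : ∀ w : Fn H ⊗[k] Fn G, ev y ((TensorProduct.equivFinsuppOfBasisRight b (V.mkQ.lTensor (Fn H) w)) a) =
        b.repr (V.mkQ (TensorProduct.lid k (Fn G)
          (Algebra.TensorProduct.map (ev y) (AlgHom.id k (Fn G)) w))) a := by
      intro w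
      induction w using TensorProduct.induction_on with
      | zero => simp
      | add x y hx hy => simp only [map_add, Finsupp.add_apply, hx, hy]
      | tmul c v => simp [TensorProduct.equivFinsuppOfBasisRight_apply_tmul_apply, _root_.mul_comm]
    rw [hc, show Algebra.TensorProduct.map (ev y) (AlgHom.id k (Fn G)) (coact i f) =
        (1 : k) ⊗ₜ[k] R (y ≫ i) f from ?_, TensorProduct.lid_tmul, one_smul,
      show V.mkQ (R (y ≫ i) f) = 0 from (Submodule.Quotient.mk_eq_zero V).2 (hV y f hf)]
    · simp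
    · rw [← rightReg_point, rightReg_apply, act_tmul]
      have he : ev y = ptAlg k (e1 ≫ y) := AlgHom.ext fun a => by
        change _ = (specAlg k).symm (pull (e1 ≫ y) a)
        rw [specAlg_symm_pull, ← Category.assoc, e0_e1, Category.id_comp]
      rw [he]
  obtain ⟨w, hw⟩ : coact i f ∈ LinearMap.range (V.subtype.lTensor (Fn H)) :=
    (LinearMap.exact_iff.1 (lTensor_exact (Fn H) (LinearMap.exact_subtype_mkQ V) V.mkQ_surjective)) ▸ h0
  rw [← hw]
  clear hw h0
  induction w using TensorProduct.induction_on with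
  | zero => simp
  | add x y hx hy => simp only [map_add]; exact add_mem hx hy
  | tmul c v =>
    rw [LinearMap.lTensor_tmul, Algebra.TensorProduct.map_tmul]
    exact Submodule.tmul_mem_baseChange_of_mem _ v.2

end Groth.Agent.H19Obs
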