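import Groth.Agent.H19Obs.Basic
import Mathlib

/-!
# Semi-invariant functions of inverse weight
-/

set_option autoImplicit false
set_option maxHeartbeats 1000000
set_option synthInstance.maxHeartbeats 200000
set_option linter.style.haveILetI false
set_option backward.isDefEq.respectTransparency false

universe u

open CategoryTheory CategoryTheory.Limits MonoidalCategory CartesianMonoidalCategory MonObj AlgebraicGeometry
open Groth.Agent.H27Witt Groth.Agent.H27Witt.Fn

noncomputable section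

namespace Groth.Agent.H19Obs

attribute [local instance 2000] Hom.group Hom.monoid

section Algebra

variable {k : Type u} [Field k] [IsAlgClosed k]

/-- A maximal ideal of a finitely generated algebra is the kernel of a point. -/
theorem exists_point_ker {T : Type u} [CommRing T] [Algebra k T] [Algebra.FiniteType k T] (M : Ideal T)
    [M.IsMaximal] : ∃ ψ : T →ₐ[k] k, RingHom.ker ψ = M := by
  letI : Field (T ⧸ M) := Ideal.Quotient.field M
  haveI : Algebra.FiniteType k (T ⧸ M) :=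
    Algebra.FiniteType.of_surjective (Ideal.Quotient.mkₐ k M) Ideal.Quotient.mk_surjective
  haveI : Module.Finite k (T ⧸ M) := finite_of_finite_type_of_isJacobsonRing k (T ⧸ M)
  have hb := IsAlgClosed.algebraMap_bijective_of_isIntegral (k := k) (K := T ⧸ M)
  let e : k ≃ₐ[k] T ⧸ M := AlgEquiv.ofBijective (Algebra.ofId k (T ⧸ M)) hb
  refine ⟨e.symm.toAlgHom.comp (Ideal.Quotient.mkₐ k M), Ideal.ext fun t => ?_⟩
  rw [RingHom.mem_ker]
  exact (map_eq_zero_iff e.symm e.symm.injective).trans Ideal.Quotient.eq_zero_iff_mem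

/-- Outside a prime ideal there is a point of its zero locus. -/
theorem exists_point_of_notMem {T : Type u} [CommRing T] [Algebra k T] [Algebra.FiniteType k T] (p : Ideal T)
    [hp : p.IsPrime] {a : T} (ha : a ∉ p) : ∃ ψ : T →ₐ[k] k, p ≤ RingHom.ker ψ ∧ ψ a ≠ 0 := by
  haveI := Algebra.FiniteType.isNoetherianRing k T
  haveI : IsJacobsonRing T := isJacobsonRing_of_finiteType (A := k)
  rw [← IsJacobsonRing.out (inferInstance : IsJacobsonRing T) hp.isRadical, Ideal.jacobson] at ha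
  obtain ⟨M, hM, haM⟩ : ∃ M, (p ≤ M ∧ M.IsMaximal) ∧ a ∉ M := by
    by_contra! h
    exact ha (Ideal.mem_sInf.2 fun {M} hM => h M hM)
  haveI := hM.2
  obtain ⟨ψ, hψ⟩ := exists_point_ker (k := k) M
  exact ⟨ψ, hψ ▸ hM.1, fun h => haM (hψ ▸ (RingHom.mem_ker.2 h))⟩

/-- Points lift along an injection from a domain away from a nonzero element. -/
theorem exists_ne_zero_lift {S T : Type u} [CommRing S] [IsDomain S] [Algebra k S] [Algebra.FiniteType k S]
    [CommRing T] [Algebra k T] [Algebra.FiniteType k T] (f : S →ₐ[k] T) (hf : Function.Injective f) :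
    ∃ d : S, d ≠ 0 ∧ ∀ φ : S →ₐ[k] k, φ d ≠ 0 → ∃ ψ : T →ₐ[k] k, ψ.comp f = φ := by
  haveI := Algebra.FiniteType.isNoetherianRing k S
  have hft : f.toRingHom.FiniteType := by
    refine RingHom.FiniteType.of_comp_finiteType (f := algebraMap k S) ?_
    rw [show f.toRingHom.comp (algebraMap k S) = algebraMap k T from f.comp_algebraMap]
    exact RingHom.finiteType_algebraMap.2 inferInstance
  have hc := PrimeSpectrum.isConstructible_range_comap (RingHom.FinitePresentation.of_finiteType.1 hft)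
  obtain ⟨D, hD⟩ := PrimeSpectrum.exists_constructibleSetData_iff.2 hc
  have hgen : (⟨⊥, Ideal.isPrime_bot⟩ : PrimeSpectrum S) ∈ Set.range (PrimeSpectrum.comap f.toRingHom) := by
    have hmin : (⊥ : Ideal S) ∈ minimalPrimes S := by
      rw [IsDomain.minimalPrimes_eq_singleton_bot]; exact rfl
    obtain ⟨p, hp, hpc⟩ := Ideal.exists_comap_eq_of_mem_minimalPrimes_of_injective (f := f.toRingHom) hf ⊥ hmin
    exact ⟨⟨p, hp⟩, PrimeSpectrum.ext hpc⟩
  rw [← hD] at hgen
  simp only [PrimeSpectrum.ConstructibleSetData.toSet, Set.mem_iUnion] at hgen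
  obtain ⟨C, hC, hg, hfC⟩ := hgen
  refine ⟨C.f, fun h => hfC ?_, fun φ hφ => ?_⟩
  · rw [PrimeSpectrum.mem_zeroLocus, h]
    simp
  · haveI : (RingHom.ker φ).IsMaximal :=
      RingHom.ker_isMaximal_of_surjective φ fun c => ⟨algebraMap k S c, φ.commutes c⟩
    let x : PrimeSpectrum S := ⟨RingHom.ker φ, inferInstance⟩
    have hx : x ∈ Set.range (PrimeSpectrum.comap f.toRingHom) := by
      rw [← hD]
      simp only [PrimeSpectrum.ConstructibleSetData.toSet, Set.mem_iUnion]
      refine ⟨C, hC, fun s hs => ?_, ?_⟩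
      · have h0 := hg hs
        rw [show s = 0 from h0]
        exact Ideal.zero_mem _
      · rw [PrimeSpectrum.mem_zeroLocus, Set.singleton_subset_iff]
        exact hφ
    obtain ⟨q, hq⟩ := hx
    obtain ⟨M, hM, hqM⟩ := Ideal.exists_le_maximal q.asIdeal q.2.ne_top
    obtain ⟨ψ, hψ⟩ := exists_point_ker (k := k) M
    refine ⟨ψ, AlgHom.ext fun s => ?_⟩
    have hs : s - algebraMap k S (φ s) ∈ q.asIdeal.comap f.toRingHom := by
      rw [show q.asIdeal.comap f.toRingHom = RingHom.ker φ from congrArg PrimeSpectrum.asIdeal hq,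
        RingHom.mem_ker, map_sub, AlgHom.commutes]
      exact sub_self _
    have h1 : f (s - algebraMap k S (φ s)) ∈ RingHom.ker ψ := hψ ▸ hqM hs
    rw [RingHom.mem_ker, map_sub, map_sub, AlgHom.commutes, AlgHom.commutes, sub_eq_zero] at h1
    exact h1

end Algebra

section Group

variable {k : Type u} [Field k] [IsAlgClosed k] {G : Over (Sk k)} [GrpObj G] [IsAffine G.left] [Smooth G.hom]

theorem L_comp (a b : T0 k ⟶ G) : (L a).comp (L b) = L (b * a) := by
  refine AlgHom.ext fun f => ext_points fun x => ?_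
  rw [AlgHom.comp_apply, ev_L, ev_L, ev_L, _root_.mul_assoc]

theorem L_one : L (1 : T0 k ⟶ G) = AlgHom.id k (Fn G) := by
  refine AlgHom.ext fun f => ext_points fun x => ?_
  rw [ev_L, _root_.one_mul, AlgHom.id_apply]

theorem L_bijective (a : T0 k ⟶ G) : Function.Bijective (L a) := by
  refine Function.bijective_iff_has_inverse.2 ⟨L a⁻¹, fun f => ?_, fun f => ?_⟩
  · rw [← AlgHom.comp_apply, L_comp, mul_inv_cancel, L_one, AlgHom.id_apply]
  · rw [← AlgHom.comp_apply, L_comp, inv_mul_cancel, L_one, AlgHom.id_apply]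

theorem comap_L_mem_minimalPrimes (a : T0 k ⟶ G) {q : Ideal (Fn G)} (hq : q ∈ minimalPrimes (Fn G)) :
    q.comap (L a).toRingHom ∈ minimalPrimes (Fn G) := by
  have hqp : q.IsPrime := hq.isPrime
  refine ⟨⟨inferInstance, bot_le⟩, fun p hp hle => ?_⟩
  haveI : p.IsPrime := hp.1
  have h1 : p.comap (L a⁻¹).toRingHom ≤ q := fun f hf => by
    have h2 : L a (L a⁻¹ f) ∈ q := hle hf
    rwa [← AlgHom.comp_apply, L_comp, inv_mul_cancel, L_one, AlgHom.id_apply] at h2
  intro f hf
  have h3 : L a f ∈ p.comap (L a⁻¹).toRingHom := hq.2 ⟨inferInstance, bot_le⟩ h1 hf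
  change L a⁻¹ (L a f) ∈ p at h3
  rwa [← AlgHom.comp_apply, L_comp, mul_inv_cancel, L_one, AlgHom.id_apply] at h3

omit [IsAlgClosed k] [GrpObj G] [Smooth G.hom] in
theorem exists_pt_of_ker (ψ : Fn G →ₐ[k] k) : ∃ x : T0 k ⟶ G, ev x = ψ := exists_point ψ

/-- Every rational point lies on a single component. -/
theorem minimalPrime_unique (x : T0 k ⟶ G) {q q' : Ideal (Fn G)} (hq : q ∈ minimalPrimes (Fn G))
    (hq' : q' ∈ minimalPrimes (Fn G)) (h : q ≤ RingHom.ker (ev x)) (h' : q' ≤ RingHom.ker (ev x)) : q = q' := by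
  classical
  haveI := finiteType G
  haveI := Algebra.FiniteType.isNoetherianRing k (Fn G)
  let others := (minimalPrimes.finite_of_isNoetherianRing (Fn G)).toFinset.erase q
  have hqp : q.IsPrime := hq.isPrime
  have hnle : ¬ others.inf id ≤ q := fun hle => by
    obtain ⟨p, hp, hpq⟩ := (hqp.inf_le').1 hle
    obtain ⟨hpne, hp⟩ := Finset.mem_erase.1 hp
    rw [Set.Finite.mem_toFinset] at hp
    exact hpne (le_antisymm hpq (hq.2 ⟨hp.isPrime, bot_le⟩ hpq))
  obtain ⟨a, ha, haq⟩ := SetLike.not_le_iff_exists.1 hnle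
  obtain ⟨ψ, hψ, hψa⟩ := exists_point_of_notMem (k := k) q haq
  obtain ⟨z, rfl⟩ := exists_pt_of_ker ψ
  have huniq : ∀ p ∈ minimalPrimes (Fn G), p ≤ RingHom.ker (ev z) → p = q := by
    intro p hp hle
    by_contra hne
    exact hψa (hle ((Finset.inf_le (f := id) (Finset.mem_erase.2 ⟨hne, (Set.Finite.mem_toFinset _).2 hp⟩)) ha))
  have hc : ∀ p : Ideal (Fn G), p ≤ RingHom.ker (ev x) → p.comap (L (z * x⁻¹)).toRingHom ≤ RingHom.ker (ev z) := by
    intro p hp f hf
    have h0 : ev x (L (z * x⁻¹) f) = 0 := hp hf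
    rw [ev_L, inv_mul_cancel_right] at h0
    exact h0
  have e1 := huniq _ (comap_L_mem_minimalPrimes _ hq) (hc q h)
  have e2 := huniq _ (comap_L_mem_minimalPrimes _ hq') (hc q' h')
  exact Ideal.comap_injective_of_surjective _ (L_bijective _).2 (e1.trans e2.symm)

variable {K : Over (Sk k)} (j : K ⟶ G)

/-- The functions invariant under the right translations of the points of a subgroup. -/
def invAlg : Subalgebra k (Fn G) where
  carrier := {f | ∀ (x : T0 k ⟶ G) (y : T0 k ⟶ K), ev (x * (y ≫ j)) f = ev x f}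
  mul_mem' {a b} ha hb x y := by rw [map_mul, map_mul, ha x y, hb x y]
  add_mem' {a b} ha hb x y := by rw [map_add, map_add, ha x y, hb x y]
  algebraMap_mem' c x y := by rw [AlgHom.commutes, AlgHom.commutes]

/-- A semi-invariant with value one at the origin has a companion of inverse weight. -/
theorem exists_semiInv (s : Finset (Fn G)) (hs : ∀ f ∈ s, f ∈ invAlg j)
    (hsep : ∀ x x' : T0 k ⟶ G, (∀ f ∈ s, ev x f = ev x' f) → ∃ y : T0 k ⟶ K, x' = x * (y ≫ j))
    (φ : Fn G) (χ : (T0 k ⟶ K) → k) (hφ1 : ev (1 : T0 k ⟶ G) φ = 1)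
    (hφ : ∀ x y, ev (x * (y ≫ j)) φ = χ y * ev x φ) :
    ∃ ψ : Fn G, ev (1 : T0 k ⟶ G) ψ ≠ 0 ∧ ∀ x y, χ y * ev (x * (y ≫ j)) ψ = ev x ψ := by
  classical
  haveI := finiteType G
  haveI := Algebra.FiniteType.isNoetherianRing k (Fn G)
  have hχ : ∀ y, χ y ≠ 0 := fun y h0 => by
    have h1 := hφ (y ≫ j)⁻¹ y
    rw [inv_mul_cancel, hφ1, h0, zero_mul] at h1
    exact one_ne_zero h1
  suffices hc : ∃ c ∈ invAlg j, c ≠ 0 ∧ ∀ x, ev x φ = 0 → ev x c = 0 by
    obtain ⟨c, hcI, hc0, hcz⟩ := hc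
    obtain ⟨a, hca⟩ : ∃ a : T0 k ⟶ G, ev a c ≠ 0 := by
      by_contra! h
      exact hc0 (ext_points fun x => by rw [h, map_zero])
    have hrad : c ∈ (Ideal.span {φ}).radical := by
      rw [Ideal.radical_eq_sInf, Ideal.mem_sInf]
      rintro p ⟨hle, hp⟩
      by_contra hcp
      obtain ⟨ψ, hψ, hψc⟩ := exists_point_of_notMem (k := k) p (hp := hp) hcp
      obtain ⟨x, rfl⟩ := exists_pt_of_ker ψ
      exact hψc (hcz x (hψ (hle (Ideal.mem_span_singleton_self φ))))
    obtain ⟨m, hm⟩ := hrad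
    obtain ⟨ψ₀, hψ₀⟩ := Ideal.mem_span_singleton'.1 hm
    have hev : ∀ x, ev x ψ₀ * ev x φ = ev x c ^ m := fun x => by rw [← map_mul, hψ₀, map_pow]
    refine ⟨L a (ψ₀ * c), ?_, fun x y => ?_⟩
    · rw [ev_L, _root_.mul_one, map_mul]
      refine mul_ne_zero (fun h0 => ?_) hca
      have := hev a
      rw [h0, zero_mul] at this
      exact pow_ne_zero m hca this.symm
    · rw [ev_L, ev_L, ← _root_.mul_assoc a, map_mul, map_mul, hcI]
      by_cases h0 : ev (a * x) φ = 0
      · rw [hcz _ h0, mul_zero, mul_zero, mul_zero]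
      · have h1 := hev (a * x * (y ≫ j))
        rw [hφ, hcI, ← hev (a * x)] at h1
        rw [← _root_.mul_assoc]
        congr 1
        apply mul_right_cancel₀ h0
        rw [← h1]
        ring
  by_contra hno
  push Not at hno
  let I := invAlg j
  have hbot : (Ideal.span {φ}).comap I.val.toRingHom = ⊥ := by
    refine (Submodule.eq_bot_iff _).2 fun c hc => Subtype.ext ?_
    by_contra hc0
    obtain ⟨x, hx, hxc⟩ := hno c.1 c.2 hc0
    obtain ⟨d, hd⟩ := Ideal.mem_span_singleton'.1 (show (c : Fn G) ∈ Ideal.span {φ} from hc)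
    exact hxc (by rw [← hd, map_mul, hx, mul_zero])
  haveI : (RingHom.ker (ev (1 : T0 k ⟶ G))).IsPrime := RingHom.ker_isPrime _
  obtain ⟨q1, hq1, hq1le⟩ := Ideal.exists_minimalPrimes_le (I := (⊥ : Ideal (Fn G)))
    (J := RingHom.ker (ev (1 : T0 k ⟶ G))) bot_le
  haveI hq1p : q1.IsPrime := hq1.isPrime
  let P := q1.comap I.val.toRingHom
  obtain ⟨P', hP', hP'le⟩ := Ideal.exists_minimalPrimes_le (I := (⊥ : Ideal I)) (J := P) bot_le
  obtain ⟨Q, hQ, hφQ, hQP⟩ := Ideal.exists_comap_eq_of_mem_minimalPrimes (I := Ideal.span {φ}) I.val.toRingHom P'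
    (by rw [hbot]; exact hP')
  obtain ⟨q, hq, hqQ⟩ := Ideal.exists_minimalPrimes_le (I := (⊥ : Ideal (Fn G))) (J := Q) bot_le
  obtain ⟨ψx, hψx, -⟩ := exists_point_of_notMem (k := k) q (hp := hq.isPrime) (a := 1)
    fun h => hq.isPrime.ne_top ((Ideal.eq_top_iff_one _).2 h)
  obtain ⟨x, rfl⟩ := exists_pt_of_ker ψx
  have hq' : q.comap (L x⁻¹).toRingHom = q1 := by
    refine minimalPrime_unique 1 (comap_L_mem_minimalPrimes _ hq) hq1 (fun f hf => ?_) hq1le
    have h0 : ev x (L x⁻¹ f) = 0 := hψx hf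
    rw [ev_L, inv_mul_cancel] at h0
    exact h0
  let σ : Ideal (Fn G) → Ideal (Fn G) := fun p => p.comap (L x).toRingHom
  have hσq : σ q1 = q := by
    rw [← hq']
    ext f
    change L x⁻¹ (L x f) ∈ q ↔ f ∈ q
    rw [← AlgHom.comp_apply, L_comp, mul_inv_cancel, L_one, AlgHom.id_apply]
  have hmin : ∀ n, σ^[n] q1 ∈ minimalPrimes (Fn G) := fun n => by
    induction n with
    | zero => exact hq1
    | succ n ih => rw [Function.iterate_succ_apply']; exact comap_L_mem_minimalPrimes _ ih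
  have hσinj : Function.Injective σ := Ideal.comap_injective_of_surjective _ (L_bijective x).2
  obtain ⟨n, hn, hper⟩ : ∃ n, 0 < n ∧ σ^[n] q1 = q1 := by
    haveI : Finite ↥(minimalPrimes (Fn G)) := (minimalPrimes.finite_of_isNoetherianRing (Fn G)).to_subtype
    obtain ⟨a, b, hne, hab⟩ := Finite.exists_ne_map_eq_of_infinite
      fun n : ℕ => (⟨σ^[n] q1, hmin n⟩ : ↥(minimalPrimes (Fn G)))
    have hab' : σ^[a] q1 = σ^[b] q1 := congrArg Subtype.val hab
    rcases Nat.lt_or_gt_of_ne hne with h | h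
    · exact ⟨b - a, by omega, (hσinj.iterate a) (by
        rw [← Function.iterate_add_apply, Nat.add_sub_of_le h.le, hab'])⟩
    · exact ⟨a - b, by omega, (hσinj.iterate b) (by
        rw [← Function.iterate_add_apply, Nat.add_sub_of_le h.le, hab'])⟩
  have hdec : q.comap I.val.toRingHom ≤ P :=
    ((Ideal.comap_mono hqQ).trans hQP.le).trans hP'le
  have hPQ : Q.comap I.val.toRingHom = P := by
    refine le_antisymm (hQP.le.trans hP'le) ?_
    have hLI : ∀ c ∈ I, L x c ∈ I := fun c hc z y => by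
      rw [ev_L, ev_L, ← _root_.mul_assoc]
      exact hc _ _
    have hstep : ∀ m, ∀ c ∈ I, c ∈ σ^[m + 1] q1 → c ∈ σ^[m] q1 := by
      intro m
      induction m with
      | zero =>
        intro c hc h
        rw [show σ^[0 + 1] q1 = σ q1 from rfl, hσq] at h
        exact hdec (show (⟨c, hc⟩ : I) ∈ q.comap I.val.toRingHom from h)
      | succ m ih =>
        intro c hc h
        rw [Function.iterate_succ_apply'] at h ⊢
        exact ih _ (hLI c hc) h
    have hmono : ∀ m, ∀ c ∈ I, c ∈ σ^[m + 1] q1 → c ∈ σ^[1] q1 := by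
      intro m
      induction m with
      | zero => exact fun c _ h => h
      | succ m ih => exact fun c hc h => ih c hc (hstep (m + 1) c hc h)
    intro c hc
    obtain ⟨m, rfl⟩ : ∃ m, n = m + 1 := ⟨n - 1, by omega⟩
    have h1 := hmono m c.1 c.2 (by rw [hper]; exact hc)
    rw [Function.iterate_one, hσq] at h1
    exact hqQ h1
  haveI := hQ
  let S := Algebra.adjoin k (s : Set (Fn G))
  have hSI : S ≤ I := Algebra.adjoin_le hs
  haveI : Algebra.FiniteType k S := ⟨(Subalgebra.fg_top S).2 ⟨s, rfl⟩⟩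
  let g : S →ₐ[k] Fn G ⧸ Q := (Ideal.Quotient.mkₐ k Q).comp S.val
  haveI : (RingHom.ker g).IsPrime := RingHom.ker_isPrime g
  haveI : Algebra.FiniteType k (Fn G ⧸ Q) :=
    Algebra.FiniteType.of_surjective (Ideal.Quotient.mkₐ k Q) Ideal.Quotient.mk_surjective
  obtain ⟨d, hd, hlift⟩ := exists_ne_zero_lift (k := k) (Ideal.kerLiftAlg g) (Ideal.kerLiftAlg_injective g)
  obtain ⟨d, rfl⟩ := Ideal.Quotient.mk_surjective d
  have hdq : (d : Fn G) ∉ q1 := by
    intro h
    apply hd
    rw [Ideal.Quotient.eq_zero_iff_mem, RingHom.mem_ker]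
    have h1 : (⟨d.1, hSI d.2⟩ : I) ∈ Q.comap I.val.toRingHom := hPQ.ge h
    exact Ideal.Quotient.eq_zero_iff_mem.2 h1
  have hφq : φ ∉ q1 := fun h => by
    have := hq1le h
    rw [RingHom.mem_ker, hφ1] at this
    exact one_ne_zero this
  obtain ⟨ψ, hψ, hψd⟩ := exists_point_of_notMem (k := k) q1 (a := φ * d)
    fun h => (hq1p.mem_or_mem h).elim hφq hdq
  obtain ⟨x₀, rfl⟩ := exists_pt_of_ker ψ
  rw [map_mul, mul_ne_zero_iff] at hψd
  let φS : (S ⧸ RingHom.ker g) →ₐ[k] k := Ideal.Quotient.liftₐ _ ((ev x₀).comp S.val) fun c hc => by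
    have h1 : (c : Fn G) ∈ Q := Ideal.Quotient.eq_zero_iff_mem.1 hc
    exact hψ (hPQ.le (show (⟨c.1, hSI c.2⟩ : I) ∈ Q.comap I.val.toRingHom from h1))
  obtain ⟨ζ, hζ⟩ := hlift φS hψd.2
  obtain ⟨z, hz⟩ := exists_pt_of_ker (ζ.comp (Ideal.Quotient.mkₐ k Q))
  obtain ⟨y, hy⟩ := hsep x₀ z fun f hf => by
    have h1 := AlgHom.congr_fun hζ (Ideal.Quotient.mk _ ⟨f, Algebra.subset_adjoin hf⟩)
    rw [hz]
    exact h1.symm
  have hz0 : ev z φ = 0 := by
    rw [hz, AlgHom.comp_apply]
    have h0 : Ideal.Quotient.mkₐ k Q φ = 0 :=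
      Ideal.Quotient.eq_zero_iff_mem.2 (hφQ (Ideal.mem_span_singleton_self φ))
    rw [h0, map_zero]
  rw [hy, hφ] at hz0
  exact mul_ne_zero (hχ y) hψd.1 hz0

end Group

end Groth.Agent.H19Obs
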